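import Cfsg.Agent.UGT.BL.BlkDefs
import Cfsg.Agent.UGT.Blk.StrFin

/-!
# Theorem BL: the closing

`Blk.false_of`: a finite simple group has no `Blk Λ H`.
-/

set_option autoImplicit false

open Subgroup
open Cfsg.Agent.SignalizersComponents.IntrinsicBasic (cj)

namespace Cfsg.Agent.UGT.BL

universe u

variable {G : Type u} [Group G] {Λ : Set (Subgroup G)} {H : Subgroup G}

theorem Blk.toBlk [Finite G] (h : Blk Λ H) : Cfsg.Agent.UGT.Blk.Blk Λ H where
  comm := fun A hA B hB hAB => Cfsg.Agent.UGT.Blk.comm_iff_le_centralizer.mpr (h.comm A hA B hB hAB)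
  sim := h.simple
  nab := fun A hA hc => h.nab A hA fun x y => Subtype.ext (hc x x.2 y y.2)
  even := h.inv
  four := h.four
  stab := h.stab
  two := h.two
  sc := by
    intro J hJ hcard u hu ou g hg
    obtain ⟨A, hA, B, hB, hAB⟩ := h.two
    have h1 : ({A, B} : Set (Subgroup G)) ⊆ Λ := by
      rintro C (rfl | rfl)
      · exact hA
      · exact hB
    have h2 := Set.ncard_le_ncard h1 (Set.toFinite _)
    rw [Set.ncard_pair hAB] at h2
    refine h.sc J hJ ?_ ?_ u hu ou g hg
    · rintro rfl
      omega
    · rcases Nat.lt_or_ge 1 J.ncard with h3 | h3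
      · right
        have h4 := Set.ncard_sdiff_add_ncard_of_subset hJ (Set.toFinite Λ)
        rw [← Set.one_lt_ncard_iff_nontrivial]
        omega
      · left
        exact (Set.ncard_le_one_iff_subsingleton (s := J)).mp h3

/-- **The closing.** -/
theorem Blk.false_of [Finite G] [IsSimpleGroup G] (h : Blk Λ H) : False := h.toBlk.false_of

end Cfsg.Agent.UGT.BL
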