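import Cfsg.Agent.UGT.BL.End
import Cfsg.Agent.UGT.Ctl.Main

/-!
# Theorem BL for arbitrary finite groups

* `Blk.eq_top`: the closing: a block `Blk Λ H` in a finite group has `H = ⊤`;
* `Sys.np`: no quasisimple subgroup contains a pair of partners;
* `Sys.conj_comm`: a member of a `Sys` commutes with its other conjugates;
* `Sys.sn_top`: every member of a `Sys` is subnormal;
* `Sys.comm`: two different members commute.
-/

set_option autoImplicit false

open Cfsg Subgroup
open Cfsg.Agent.SignalizersComponents.IntrinsicBasic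
open Cfsg.Agent.Intrinsic.Basic
open Cfsg.Agent.UGT.TMCBase
open scoped commutatorElement

namespace Cfsg.Agent.UGT.BL

universe u

section blk

variable {G : Type u} [Group G] {Λ : Set (Subgroup G)} {H : Subgroup G}

theorem Blk.le (h : Blk Λ H) {L : Subgroup G} (hL : L ∈ Λ) : L ≤ H := by
  intro g hg
  rw [h.stab]
  intro K hK
  by_cases hne : L = K
  · subst hne
    rw [cj_eq_self_of_mem hg]
    exact hL
  · have h1 : cj g K = K := by
      ext x
      rw [mem_cj]
      have h2 : ∀ y ∈ K, g * y = y * g := fun y hy => by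
        have := mem_centralizer_iff.1 (h.comm L hL K hK hne hg) y hy
        exact this.symm
      constructor
      · intro hx
        have h3 := h2 _ hx
        have e : x = g⁻¹ * x * g := by
          have h4 : g * (g⁻¹ * x * g) = x * g := by group
          rw [h4] at h3
          exact mul_right_cancel h3
        rw [e]
        exact hx
      · intro hx
        have h3 := h2 _ hx
        have e : g⁻¹ * x * g = x := by
          rw [mul_assoc, ← h3]
          group
        rw [e]
        exact hx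
    rw [h1]
    exact hK

/-- **The closing in an arbitrary finite group.** -/
theorem Blk.eq_top [Finite G] (h : Blk Λ H) : H = ⊤ := by
  obtain ⟨A, hA, B, hB, hAB⟩ := h.two
  have : Nontrivial ↥Λ := ⟨⟨A, hA⟩, ⟨B, hB⟩, fun e => hAB (congrArg Subtype.val e)⟩
  have hcomm : ∀ i j : ↥Λ, i ≠ j → ∀ x ∈ (i : Subgroup G), ∀ y ∈ (j : Subgroup G), x * y = y * x := by
    intro i j hij x hx y hy
    exact (mem_centralizer_iff.1 (h.comm i i.2 j j.2 (fun e => hij (Subtype.ext e)) hx) y hy).symm
  refine Ctl.Ctl.eq_top (H := H) (W := (⊥ : Subgroup G)) (F := fun i : ↥Λ => (i : Subgroup G)) ?_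
  refine ⟨fun i => h.le i.2, fun i => bot_le, ?_, ?_, ?_, ?_, ?_, ?_, ?_⟩
  · rw [Subgroup.card_bot]
    exact odd_one
  · intro g _ x hx
    rw [mem_bot] at hx ⊢
    rw [hx]
    group
  · intro i j hij x hx y hy
    rw [mem_bot, hcomm i j hij x hx y hy]
    group
  · intro g hg i
    exact ⟨⟨cj g i, (h.stab g).1 hg i i.2⟩, rfl⟩
  · intro i x hx hc
    rw [mem_bot]
    have hs := h.simple i i.2
    have h1 : (⟨x, hx⟩ : ↥(i : Subgroup G)) ∈ center ↥(i : Subgroup G) := by
      rw [mem_center_iff]
      intro y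
      apply Subtype.ext
      have h2 := hc y y.2
      rw [mem_bot] at h2
      have h3 : x * y = y * x := by
        calc x * (y : G) = x * y * x⁻¹ * (y : G)⁻¹ * (y * x) := by group
          _ = y * x := by rw [h2, one_mul]
      exact h3.symm
    rcases (inferInstance : (center ↥(i : Subgroup G)).Normal).eq_bot_or_eq_top with h2 | h2
    · rw [h2, mem_bot] at h1
      exact congrArg Subtype.val h1
    · exfalso
      apply h.nab i i.2
      intro a b
      have h3 : b ∈ center ↥(i : Subgroup G) := by rw [h2]; exact mem_top b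
      exact mem_center_iff.1 h3 a
  · intro i
    obtain ⟨t, ht, ot⟩ := h.inv i i.2
    obtain ⟨v, hv, ov, hvt, htv⟩ := h.four i i.2 t ht ot
    refine ⟨t, ht, v, hv, ?_, ?_, htv, ?_, ?_, hvt.symm⟩
    · rw [← pow_two, ← ot, pow_orderOf_eq_one]
    · rw [← pow_two, ← ov, pow_orderOf_eq_one]
    · rintro rfl
      rw [orderOf_one] at ot
      norm_num at ot
    · rintro rfl
      rw [orderOf_one] at ov
      norm_num at ov
  · intro i u hu hu2 hu1 g hg
    refine h.sc {(i : Subgroup G)} (by simp) ?_ (Or.inl Set.subsingleton_singleton) u ?_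
      (P3.orderOf_of_sq hu2 hu1) g hg
    · intro e
      have h1 : A ∈ ({(i : Subgroup G)} : Set (Subgroup G)) := by rw [e]; exact hA
      have h2 : B ∈ ({(i : Subgroup G)} : Set (Subgroup G)) := by rw [e]; exact hB
      rw [Set.mem_singleton_iff] at h1 h2
      exact hAB (h1.trans h2.symm)
    · rw [sSup_singleton]
      exact hu

end blk

section sys

variable {G : Type u} [Group G] [Finite G] {LL : Set (Subgroup G)}

/-- No quasisimple subgroup contains a pair of partners. -/
theorem Sys.np (h : Sys LL) (J : Subgroup G) (hq : IsQuasisimple ↥J) {A B : Subgroup G} (hA : A ∈ LL) (hB : B ∈ LL)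
    (hP : P A B) (hAJ : A ≤ J) (hBJ : B ≤ J) : False := by
  have h1 := h.sub hA hB hP hAJ hBJ
  have h2 := h1.quot (f := QuotientGroup.mk' (center ↥J)) (by
    intro x hx y
    have h3 : x ∈ center ↥J := (QuotientGroup.eq_one_iff x).1 hx
    exact (mem_center_iff.1 h3 y).symm) (QuotientGroup.mk'_surjective _)
  have := hq.2
  exact false_of h2

omit [Finite G] in
/-- two members which commute modulo a central subgroup commute -/
theorem cm_of_map {Q : Type u} [Group Q] {f : G →* Q} (hf : ∀ x, f x = 1 → ∀ y, x * y = y * x) {L K : Subgroup G}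
    (hL : L ≤ ⁅L, L⁆) (h : Cm (L.map f) (K.map f)) : Cm L K := by
  have key : ∀ l ∈ L, ∀ k ∈ K, f (l * k * l⁻¹ * k⁻¹) = 1 := by
    intro l hl k hk
    have h1 := h (f l) ⟨l, hl, rfl⟩ (f k) ⟨k, hk, rfl⟩
    rw [map_mul, map_mul, map_mul, map_inv, map_inv, h1]
    group
  intro l hl k hk
  have h1 : L ≤ centralizer ({k} : Set G) := by
    refine hL.trans ?_
    rw [commutator_le]
    intro a ha b hb
    rw [mem_centralizer_singleton_iff]
    obtain ⟨z, hz⟩ : ∃ z, z = a * k * a⁻¹ * k⁻¹ := ⟨_, rfl⟩
    obtain ⟨w, hw⟩ : ∃ w, w = b * k * b⁻¹ * k⁻¹ := ⟨_, rfl⟩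
    have hzc := hf z (hz ▸ key a ha k hk)
    have hwc := hf w (hw ▸ key b hb k hk)
    have ea : a * k = z * k * a := by rw [hz]; group
    have eb : b * k = w * k * b := by rw [hw]; group
    have ea' : a⁻¹ * k = z⁻¹ * k * a⁻¹ := by
      have h3 : k = a⁻¹ * (z * k * a) := by rw [← ea]; group
      have h4 : a⁻¹ * (z * k * a) = z * (a⁻¹ * k * a) := by
        calc a⁻¹ * (z * k * a) = (a⁻¹ * z) * (k * a) := by group
          _ = (z * a⁻¹) * (k * a) := by rw [hzc a⁻¹]
          _ = z * (a⁻¹ * k * a) := by group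
      rw [h4] at h3
      calc a⁻¹ * k = z⁻¹ * (z * (a⁻¹ * k * a)) * a⁻¹ := by group
        _ = z⁻¹ * k * a⁻¹ := by rw [← h3]
    have eb' : b⁻¹ * k = w⁻¹ * k * b⁻¹ := by
      have h3 : k = b⁻¹ * (w * k * b) := by rw [← eb]; group
      have h4 : b⁻¹ * (w * k * b) = w * (b⁻¹ * k * b) := by
        calc b⁻¹ * (w * k * b) = (b⁻¹ * w) * (k * b) := by group
          _ = (w * b⁻¹) * (k * b) := by rw [hwc b⁻¹]
          _ = w * (b⁻¹ * k * b) := by group
      rw [h4] at h3
      calc b⁻¹ * k = w⁻¹ * (w * (b⁻¹ * k * b)) * b⁻¹ := by group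
        _ = w⁻¹ * k * b⁻¹ := by rw [← h3]
    have hzi : ∀ y, z⁻¹ * y = y * z⁻¹ := fun y => by
      have := hzc y
      calc z⁻¹ * y = z⁻¹ * (y * z) * z⁻¹ := by group
        _ = z⁻¹ * (z * y) * z⁻¹ := by rw [this]
        _ = y * z⁻¹ := by group
    have hwi : ∀ y, w⁻¹ * y = y * w⁻¹ := fun y => by
      have := hwc y
      calc w⁻¹ * y = w⁻¹ * (y * w) * w⁻¹ := by group
        _ = w⁻¹ * (w * y) * w⁻¹ := by rw [this]
        _ = y * w⁻¹ := by group
    rw [commutatorElement_def]
    calc a * b * a⁻¹ * b⁻¹ * k = a * b * a⁻¹ * (b⁻¹ * k) := by group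
      _ = a * b * (a⁻¹ * (w⁻¹ * k)) * b⁻¹ := by rw [eb']; group
      _ = a * b * (a⁻¹ * w⁻¹ * k) * b⁻¹ := by group
      _ = a * b * (w⁻¹ * a⁻¹ * k) * b⁻¹ := by rw [hwi a⁻¹]
      _ = a * b * w⁻¹ * (a⁻¹ * k) * b⁻¹ := by group
      _ = a * b * w⁻¹ * (z⁻¹ * k * a⁻¹) * b⁻¹ := by rw [ea']
      _ = a * (b * (w⁻¹ * z⁻¹) * k) * a⁻¹ * b⁻¹ := by group
      _ = a * ((w⁻¹ * z⁻¹) * b * k) * a⁻¹ * b⁻¹ := by
          have : b * (w⁻¹ * z⁻¹) = (w⁻¹ * z⁻¹) * b := by
            rw [← mul_assoc, ← hwi b, mul_assoc, ← hzi b, mul_assoc]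
          rw [this]
      _ = a * (w⁻¹ * z⁻¹) * (b * k) * a⁻¹ * b⁻¹ := by group
      _ = a * (w⁻¹ * z⁻¹) * (w * k * b) * a⁻¹ * b⁻¹ := by rw [eb]
      _ = a * (w⁻¹ * (z⁻¹ * w)) * k * b * a⁻¹ * b⁻¹ := by group
      _ = a * (w⁻¹ * (w * z⁻¹)) * k * b * a⁻¹ * b⁻¹ := by rw [hzi w]
      _ = a * z⁻¹ * k * b * a⁻¹ * b⁻¹ := by group
      _ = z⁻¹ * a * k * b * a⁻¹ * b⁻¹ := by rw [hzi a]
      _ = z⁻¹ * (a * k) * b * a⁻¹ * b⁻¹ := by group
      _ = z⁻¹ * (z * k * a) * b * a⁻¹ * b⁻¹ := by rw [ea]
      _ = k * (a * b * a⁻¹ * b⁻¹) := by group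
  exact mem_centralizer_singleton_iff.1 (h1 hl)

end sys

theorem conj_comm_aux : ∀ (n : ℕ) (G : Type u) [Group G] [Finite G] (LL : Set (Subgroup G)), Nat.card G ≤ n →
    Sys LL → ∀ L ∈ LL, ∀ g : G, L = cj g L ∨ Cm L (cj g L) := by
  intro n
  induction n with
  | zero =>
    intro G _ _ LL hn h
    have := Nat.card_pos (α := G)
    omega
  | succ n ih =>
    intro G _ _ LL hn h L hL g
    by_cases hZ : center G = ⊥
    · have hW : World LL := ⟨h, fun J _ hq A hA B hB hP hAJ hBJ => h.np J hq hA hB hP hAJ hBJ, fun u hu1 htop => by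
        apply hu1
        have h1 : u ∈ center G := by
          rw [mem_center_iff]
          intro g
          exact comm_c (by rw [htop]; exact mem_top g)
        rwa [hZ, mem_bot] at h1⟩
      have h1 : g ∈ hW.stab hL := by
        rw [(hW.blk hL).eq_top]
        exact mem_top g
      rcases h1 with h2 | h2
      · exact Or.inl h2
      · exact Or.inr h2.cm
    · have hf : ∀ x, QuotientGroup.mk' (center G) x = 1 → ∀ y, x * y = y * x := by
        intro x hx y
        have h3 : x ∈ center G := (QuotientGroup.eq_one_iff x).1 hx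
        exact (mem_center_iff.1 h3 y).symm
      have h2 := h.quot (f := QuotientGroup.mk' (center G)) hf (QuotientGroup.mk'_surjective _)
      have h3 : Nat.card (G ⧸ center G) ≤ n := by
        have h4 := (center G).card_eq_card_quotient_mul_card_subgroup
        have h5 : 2 ≤ Nat.card ↥(center G) := by
          have h6 : 1 < Nat.card ↥(center G) := by
            by_contra h7
            apply hZ
            exact Subgroup.eq_bot_of_card_le _ (not_lt.1 h7)
          omega
        have h6 : 0 < Nat.card (G ⧸ center G) := Nat.card_pos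
        nlinarith
      rcases ih _ _ h3 h2 _ ⟨L, hL, rfl⟩ (QuotientGroup.mk' (center G) g) with h4 | h4
      · left
        rw [cj_map] at h4
        -- `L ≤ cj g L * Z`
        have hp := (h.ty L hL).perfect
        have hp' := (h.ty _ (h.conj g L hL)).perfect
        have key : ∀ A B : Subgroup G, A ≤ ⁅A, A⁆ → A.map (QuotientGroup.mk' (center G)) ≤ B.map (QuotientGroup.mk' (center G)) →
            A ≤ B := by
          intro A B hA hAB
          have hex : ∀ a ∈ A, ∃ b ∈ B, ∃ z ∈ center G, a = b * z := by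
            intro a ha
            obtain ⟨b, hb, hab⟩ := hAB ⟨a, ha, rfl⟩
            refine ⟨b, hb, b⁻¹ * a, ?_, by group⟩
            rw [← QuotientGroup.eq_one_iff]
            have : QuotientGroup.mk' (center G) (b⁻¹ * a) = 1 := by
              rw [map_mul, map_inv, hab, inv_mul_cancel]
            exact this
          refine hA.trans ?_
          rw [commutator_le]
          intro a ha a' ha'
          obtain ⟨b, hb, z, hz, rfl⟩ := hex a ha
          obtain ⟨b', hb', z', hz', rfl⟩ := hex a' ha'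
          have hzc : ∀ y, z * y = y * z := fun y => (mem_center_iff.1 hz y).symm
          have hzc' : ∀ y, z' * y = y * z' := fun y => (mem_center_iff.1 hz' y).symm
          have e : ⁅b * z, b' * z'⁆ = ⁅b, b'⁆ := by
            rw [commutatorElement_def, commutatorElement_def]
            have e1 : b * z * (b' * z') = b * b' * (z * z') := by
              calc b * z * (b' * z') = b * (z * b') * z' := by group
                _ = b * (b' * z) * z' := by rw [hzc b']
                _ = b * b' * (z * z') := by group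
            have e2 : b' * z' * (b * z) = b' * b * (z' * z) := by
              calc b' * z' * (b * z) = b' * (z' * b) * z := by group
                _ = b' * (b * z') * z := by rw [hzc' b]
                _ = b' * b * (z' * z) := by group
            calc b * z * (b' * z') * (b * z)⁻¹ * (b' * z')⁻¹ = (b * z * (b' * z')) * (b' * z' * (b * z))⁻¹ := by group
              _ = (b * b' * (z * z')) * (b' * b * (z' * z))⁻¹ := by rw [e1, e2]
              _ = b * b' * (z * z') * (z' * z)⁻¹ * (b' * b)⁻¹ := by group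
              _ = b * b' * (z' * z) * (z' * z)⁻¹ * (b' * b)⁻¹ := by rw [hzc z']
              _ = b * b' * b⁻¹ * b'⁻¹ := by group
          rw [e]
          rw [commutatorElement_def]
          exact B.mul_mem (B.mul_mem (B.mul_mem hb hb') (B.inv_mem hb)) (B.inv_mem hb')
        exact le_antisymm (key _ _ hp h4.le) (key _ _ hp' h4.ge)
      · right
        rw [cj_map] at h4
        exact cm_of_map hf (h.ty L hL).perfect h4

section sys2

variable {G : Type u} [Group G] [Finite G] {LL : Set (Subgroup G)}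

/-- **A member commutes with its other conjugates.** -/
theorem Sys.conj_comm (h : Sys LL) {L : Subgroup G} (hL : L ∈ LL) (g : G) : L = cj g L ∨ Cm L (cj g L) :=
  conj_comm_aux _ G LL le_rfl h L hL g

/-- **Every member is subnormal.** -/
theorem Sys.sn_top (h : Sys LL) {L : Subgroup G} (hL : L ∈ LL) : Sn (⊤ : Subgroup G) L := by
  refine ⟨le_top, ?_⟩
  set N : Subgroup G := ⨆ g : G, cj g L with hN
  have hNn : N.Normal := by
    refine ⟨fun n hn g => ?_⟩
    have h1 : N ≤ cj g⁻¹ N := by
      refine iSup_le fun k x hx => ?_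
      rw [mem_cj]
      have h2 : cj (g * k) L ≤ N := le_iSup (fun g : G => cj g L) (g * k)
      apply h2
      rw [mem_cj] at hx ⊢
      have e : (g * k)⁻¹ * ((g⁻¹)⁻¹ * x * g⁻¹) * (g * k) = k⁻¹ * x * k := by group
      rw [e]
      exact hx
    have h3 := h1 hn
    rw [mem_cj] at h3
    have e : (g⁻¹)⁻¹ * n * g⁻¹ = g * n * g⁻¹ := by group
    rwa [e] at h3
  have hLN : L ≤ N := by
    have h1 : cj (1 : G) L ≤ N := le_iSup (fun g : G => cj g L) 1
    rwa [cj_one] at h1
  have hnorm : N ≤ normalizer (L : Set G) := by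
    refine iSup_le fun g => ?_
    rcases h.conj_comm hL g with h1 | h1
    · rw [← h1]
      exact le_normalizer
    · exact h1.symm.le_normalizer
  have h1 : (L.subgroupOf N).Normal := by
    refine ⟨fun n hn g => ?_⟩
    rw [mem_subgroupOf] at hn ⊢
    exact (mem_normalizer_iff.1 (hnorm g.2) _).1 hn
  have h2 : L.IsSubnormal := IsSubnormal.step L N hLN hNn.isSubnormal h1
  have h3 : (L.subgroupOf (⊤ : Subgroup G)) = L.comap (⊤ : Subgroup G).subtype := rfl
  rw [h3]
  exact h2.comap _

/-- **Two members are equal or commute.** -/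
theorem Sys.eq_or_comm (h : Sys LL) {L K : Subgroup G} (hL : L ∈ LL) (hK : K ∈ LL) : L = K ∨ Cm L K := by
  by_cases hne : L = K
  · exact Or.inl hne
  · exact Or.inr (Cm.sn (h.ty L hL) (h.ty K hK) (h.sn_top hL) (h.sn_top hK) hne)

end sys2

end Cfsg.Agent.UGT.BL
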