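import Cfsg.Agent.UGT.P3.Basic
import Cfsg.Agent.UGT.PumpGen
import Cfsg.Agent.UGT.RelK.Sub
import Cfsg.Agent.UGT.TT.PGLSolv

/-!
# Theorem BL: basic definitions

`T2 A`: what is used about `L₂(q)`, `q ≥ 5` odd.  `Cm A B`: `A` and `B` commute.  `Iv L t`: `t` is an
involution of `L`.  `Sn X K`: `K` is a subnormal subgroup of `X`.  `P L K`: the partner relation: `L` and `K`
commute, `K` is subnormal in `C(t)` for the involutions `t` of `L` and conversely.
`Sys LL`: the hypotheses of Theorem BL.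
-/

set_option autoImplicit false

open Cfsg Subgroup
open Cfsg.Agent.SignalizersComponents Cfsg.Agent.Lib
open Cfsg.Agent.SignalizersComponents.IntrinsicBasic
open Cfsg.Agent.SignalizersComponents.IntrinsicIntr
open Cfsg.Agent.SignalizersComponents.PLayerAut
open Cfsg.Agent.Intrinsic.Basic Cfsg.Agent.Intrinsic.Cen Cfsg.Agent.Intrinsic.Diag
open Cfsg.Agent.McLLyComp.Act
open Cfsg.Agent.UGT.TMCBase
open scoped commutatorElement

namespace Cfsg.Agent.UGT.BL

universe u

/-- what is used about `L₂(q)`, `q ≥ 5` odd -/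
structure T2 (A : Type*) [Group A] : Prop where
  sim : IsSimpleGroup A
  nab : ¬ ∀ x y : A, x * y = y * x
  inv : ∃ t : A, t * t = 1 ∧ t ≠ 1
  four : ∀ t : A, t * t = 1 → t ≠ 1 → ∃ v : A, v * v = 1 ∧ v ≠ 1 ∧ v ≠ t ∧ t * v = v * t
  solv : ∀ (J : Subgroup (MulAut A)) (t : A), t * t = 1 → t ≠ 1 → J ≤ ⁅J, J⁆ → (∀ β ∈ J, β t = t) → J = ⊥

/-- `L₂(q)`, `q ≥ 5` odd -/
theorem T2.of_rep {F : Type*} [Field F] [Finite F] {L : Type*} [Group L] (R : Cfsg.Agent.GH.L2Aut.Rep F L)
    (hq : 4 ≤ Nat.card F) : T2 L where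
  sim := TT.PGLSolv.isSimple R hq
  nab := TT.PGLSolv.nab R
  inv := by
    obtain ⟨a, b, hab⟩ := R.exists_four
    exact ⟨a, hab.aa, hab.a1⟩
  four t h1 h2 := by
    obtain ⟨f, h3, h4, h5, h6⟩ := TT.PGLSolv.four R h1 h2
    exact ⟨f, h3, h4, h5, h6⟩
  solv J t h1 h2 hJ hf := by
    have h3 : MulAut.conj t * MulAut.conj t = 1 := by rw [← map_mul, h1, map_one]
    have h4 : MulAut.conj t ≠ 1 := by
      intro h
      have h5 : t ∈ Subgroup.center L := by
        rw [Subgroup.mem_center_iff]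
        intro g
        have h6 := congrArg (fun f : MulAut L => f g) h
        simp only [MulAut.conj_apply, MulAut.one_apply] at h6
        rw [mul_inv_eq_iff_eq_mul] at h6
        exact h6.symm
      rw [R.center_eq_bot, Subgroup.mem_bot] at h5
      exact h2 h5
    refine TT.PGLSolv.solv R (R.conj_mem_PGL t) h3 h4 hJ ?_
    intro β hβ
    ext x
    simp only [MulAut.mul_apply, MulAut.conj_apply, map_mul, map_inv, hf β hβ]

theorem T2.congr {A B : Type*} [Group A] [Group B] (h : T2 A) (e : A ≃* B) : T2 B where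
  sim := by
    have := h.sim
    exact e.symm.isSimpleGroup
  nab := by
    intro h1
    apply h.nab
    intro x y
    apply e.injective
    rw [map_mul, map_mul, h1]
  inv := by
    obtain ⟨t, h1, h2⟩ := h.inv
    refine ⟨e t, by rw [← map_mul, h1, map_one], fun h3 => h2 ?_⟩
    apply e.injective
    rw [h3, map_one]
  four := by
    intro t h1 h2
    obtain ⟨v, h3, h4, h5, h6⟩ := h.four (e.symm t) (by rw [← map_mul, h1, map_one])
      (fun h => h2 (by rw [← e.apply_symm_apply t, h, map_one]))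
    refine ⟨e v, by rw [← map_mul, h3, map_one], fun h => h4 ?_, fun h => h5 ?_, ?_⟩
    · apply e.injective; rw [h, map_one]
    · rw [← h, e.symm_apply_apply]
    · have h7 := congrArg e h6
      rwa [map_mul, map_mul, e.apply_symm_apply] at h7
  solv := by
    intro J t h1 h2 hJ hf
    obtain ⟨φ, hφ⟩ : ∃ φ : MulAut B ≃* MulAut A, φ = MulAut.congr e.symm := ⟨_, rfl⟩
    have h3 : J.map φ.toMonoidHom = ⊥ := by
      refine h.solv _ (e.symm t) (by rw [← map_mul, h1, map_one])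
        (fun h => h2 (by rw [← e.apply_symm_apply t, h, map_one])) ?_ ?_
      · rw [← map_commutator]
        exact Subgroup.map_mono hJ
      · rintro _ ⟨β, hβ, rfl⟩
        have h4 := hf β hβ
        have h5 : (φ β) (e.symm t) = e.symm (β (e (e.symm t))) := by rw [hφ]; rfl
        rw [e.apply_symm_apply, h4] at h5
        exact h5
    exact (Subgroup.map_eq_bot_iff_of_injective _ φ.injective).1 h3

section defs

variable {G : Type*} [Group G]

/-- `A` and `B` commute -/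
def Cm (A B : Subgroup G) : Prop := ∀ x ∈ A, ∀ y ∈ B, x * y = y * x

/-- `t` is an involution of `L` -/
structure Iv (L : Subgroup G) (t : G) : Prop where
  mem : t ∈ L
  sq : t * t = 1
  ne : t ≠ 1

/-- `K` is a subnormal subgroup of `X` -/
structure Sn (X K : Subgroup G) : Prop where
  le : K ≤ X
  sn : (K.subgroupOf X).IsSubnormal

/-- the partner relation -/
structure P (L K : Subgroup G) : Prop where
  cm : Cm L K
  left : ∀ t, Iv L t → Sn (centralizer ({t} : Set G)) K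
  right : ∀ u, Iv K u → Sn (centralizer ({u} : Set G)) L

/-- the hypotheses of Theorem BL -/
structure Sys (LL : Set (Subgroup G)) : Prop where
  conj : ∀ g : G, ∀ L ∈ LL, cj g L ∈ LL
  ne : LL.Nonempty
  ty : ∀ L ∈ LL, T2 ↥L
  b1 : ∀ L ∈ LL, ∀ t, Iv L t → ∀ c, c * t = t * c → c ∈ normalizer (L : Set G)
  ad : ∀ L ∈ LL, ∀ K ∈ LL, ∀ t u, Iv L t → Iv K u → t * u = u * t → L = K ∨ Cm L K
  m : ∀ L ∈ LL, ∃ K ∈ LL, P L K

end defs

variable {G : Type*} [Group G]

theorem Cm.symm {A B : Subgroup G} (h : Cm A B) : Cm B A := fun b hb a ha => (h a ha b hb).symm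

theorem Cm.mono {A B A' B' : Subgroup G} (h : Cm A B) (hA : A' ≤ A) (hB : B' ≤ B) : Cm A' B' :=
  fun a ha b hb => h a (hA ha) b (hB hb)

theorem cm_iff {A B : Subgroup G} : Cm A B ↔ A ≤ centralizer (B : Set G) :=
  ⟨fun h a ha => mem_centralizer_iff.2 fun b hb => (h a ha b hb).symm,
    fun h a ha b hb => (mem_centralizer_iff.1 (h ha) b hb).symm⟩

theorem Cm.le_normalizer {A B : Subgroup G} (h : Cm A B) : A ≤ normalizer (B : Set G) :=
  (cm_iff.1 h).trans (centralizer_le_normalizer _)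

theorem Cm.cj {A B : Subgroup G} (h : Cm A B) (g : G) : Cm (IntrinsicBasic.cj g A) (IntrinsicBasic.cj g B) := by
  intro a ha b hb
  rw [mem_cj] at ha hb
  have h1 := h _ ha _ hb
  calc a * b = g * ((g⁻¹ * a * g) * (g⁻¹ * b * g)) * g⁻¹ := by group
    _ = g * ((g⁻¹ * b * g) * (g⁻¹ * a * g)) * g⁻¹ := by rw [h1]
    _ = b * a := by group

theorem Iv.cj {L : Subgroup G} {t : G} (h : Iv L t) (g : G) : Iv (IntrinsicBasic.cj g L) (g * t * g⁻¹) := by
  refine ⟨conj_mem_cj h.mem, ?_, fun h1 => h.ne ?_⟩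
  · calc g * t * g⁻¹ * (g * t * g⁻¹) = g * (t * t) * g⁻¹ := by group
      _ = 1 := by rw [h.sq]; group
  · calc t = g⁻¹ * (g * t * g⁻¹) * g := by group
      _ = 1 := by rw [h1]; group

theorem Iv.of_cj {L : Subgroup G} {t g : G} (h : Iv (IntrinsicBasic.cj g L) t) : Iv L (g⁻¹ * t * g) := by
  have h1 := h.cj g⁻¹
  rw [cj_inv_cj, inv_inv] at h1
  exact h1

theorem Iv.mono {L K : Subgroup G} {t : G} (h : Iv L t) (hLK : L ≤ K) : Iv K t := ⟨hLK h.mem, h.sq, h.ne⟩

theorem Sn.cj {X K : Subgroup G} (h : Sn X K) (g : G) :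
    Sn (IntrinsicBasic.cj g X) (IntrinsicBasic.cj g K) := by
  refine ⟨cj_mono h.le, ?_⟩
  obtain ⟨f, hf⟩ : ∃ f : ↥(IntrinsicBasic.cj g X) →* ↥X,
      ∀ x, (f x : G) = g⁻¹ * x * g := by
    refine ⟨⟨⟨fun x => ⟨g⁻¹ * x * g, mem_cj.1 x.2⟩, ?_⟩, ?_⟩, fun x => rfl⟩
    · apply Subtype.ext
      show g⁻¹ * 1 * g = 1
      group
    · intro x y
      apply Subtype.ext
      show g⁻¹ * (x * y) * g = g⁻¹ * x * g * (g⁻¹ * y * g)
      group
  have h1 := h.sn.comap f
  convert h1 using 1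
  ext x
  rw [mem_subgroupOf, mem_cj, mem_comap, mem_subgroupOf, hf]

theorem Sn.restrict {X M K : Subgroup G} (h : Sn X K) (hM : M ≤ X) (hK : K ≤ M) : Sn M K := by
  refine ⟨hK, ?_⟩
  have h1 := h.sn.comap (inclusion hM)
  have h2 : K.subgroupOf M = (K.subgroupOf X).comap (inclusion hM) := by
    ext x
    rfl
  rw [h2]
  exact h1

theorem P.symm {L K : Subgroup G} (h : P L K) : P K L := ⟨h.cm.symm, h.right, h.left⟩

theorem P.cj {L K : Subgroup G} (h : P L K) (g : G) : P (IntrinsicBasic.cj g L) (IntrinsicBasic.cj g K) := by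
  have key : ∀ A B : Subgroup G, (∀ t, Iv A t → Sn (centralizer ({t} : Set G)) B) →
      ∀ t, Iv (IntrinsicBasic.cj g A) t → Sn (centralizer ({t} : Set G)) (IntrinsicBasic.cj g B) := by
    intro A B h1 t ht
    have h2 := (h1 (g⁻¹ * t * g) (Iv.of_cj ht)).cj g
    rw [cj_centralizer] at h2
    have e : g * (g⁻¹ * t * g) * g⁻¹ = t := by group
    rwa [e] at h2
  exact ⟨h.cm.cj g, key _ _ h.left, key _ _ h.right⟩

/-! ### facts on `T2` subgroups -/

namespace T2

/-- simplicity in `G` -/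
theorem le_or {L N : Subgroup G} (h : T2 ↥L) (hN : ∀ l ∈ L, ∀ n ∈ N, n ∈ L → l * n * l⁻¹ ∈ N) :
    (∀ x ∈ L, x ∈ N → x = 1) ∨ L ≤ N := by
  have := h.sim
  have hn : (N.subgroupOf L).Normal := by
    refine ⟨fun n hn g => ?_⟩
    rw [mem_subgroupOf] at hn ⊢
    exact hN g g.2 n hn n.2
  rcases hn.eq_bot_or_eq_top with h1 | h1
  · left
    intro x hx hxN
    have h2 : (⟨x, hx⟩ : ↥L) ∈ N.subgroupOf L := hxN
    rw [h1, mem_bot] at h2
    exact congrArg Subtype.val h2
  · right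
    exact subgroupOf_eq_top.1 h1

theorem exists_iv {L : Subgroup G} (h : T2 ↥L) : ∃ t, Iv L t := by
  obtain ⟨t, h1, h2⟩ := h.inv
  exact ⟨t, t.2, congrArg Subtype.val h1, fun h3 => h2 (Subtype.ext h3)⟩

theorem exists_four {L : Subgroup G} (h : T2 ↥L) {t : G} (ht : Iv L t) : ∃ v, Iv L v ∧ v ≠ t ∧ t * v = v * t := by
  obtain ⟨v, h1, h2, h3, h4⟩ := h.four ⟨t, ht.mem⟩ (Subtype.ext ht.sq) (fun h1 => ht.ne (congrArg Subtype.val h1))
  exact ⟨v, ⟨v.2, congrArg Subtype.val h1, fun h3 => h2 (Subtype.ext h3)⟩, fun h5 => h3 (Subtype.ext h5),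
    congrArg Subtype.val h4⟩

theorem not_cm {L : Subgroup G} (h : T2 ↥L) : ¬ Cm L L := fun h1 =>
  h.nab fun x y => Subtype.ext (h1 x x.2 y y.2)

/-- the centre is trivial -/
theorem center {L : Subgroup G} (h : T2 ↥L) {x : G} (hx : x ∈ L) (hc : ∀ l ∈ L, x * l = l * x) : x = 1 := by
  rcases h.le_or (N := centralizer (L : Set G)) (fun l hl n hn _ => by
    rw [mem_centralizer_iff] at hn ⊢
    intro y hy
    have h1 := hn (l⁻¹ * y * l) (L.mul_mem (L.mul_mem (L.inv_mem hl) hy) hl)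
    calc y * (l * n * l⁻¹) = l * ((l⁻¹ * y * l) * n) * l⁻¹ := by group
      _ = l * (n * (l⁻¹ * y * l)) * l⁻¹ := by rw [h1]
      _ = l * n * l⁻¹ * y := by group) with h1 | h1
  · exact h1 x hx (mem_centralizer_iff.2 fun l hl => (hc l hl).symm)
  · exact absurd (cm_iff.2 h1) h.not_cm

theorem inf_of_cm {L K : Subgroup G} (h : T2 ↥L) (hc : Cm L K) {x : G} (hx : x ∈ L) (hx' : x ∈ K) : x = 1 :=
  h.center hx fun l hl => (hc l hl x hx').symm

theorem ne_of_cm {L K : Subgroup G} (h : T2 ↥L) (hc : Cm L K) : L ≠ K := by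
  rintro rfl
  exact h.not_cm hc

/-- an odd order group normalised by `L` meets `L` trivially -/
theorem odd [Finite G] {L N : Subgroup G} (h : T2 ↥L) (hN : ∀ l ∈ L, ∀ n ∈ N, l * n * l⁻¹ ∈ N)
    (hodd : Odd (Nat.card N)) {x : G} (hx : x ∈ L) (hxN : x ∈ N) : x = 1 := by
  rcases h.le_or (N := N) (fun l hl n hn _ => hN l hl n hn) with h1 | h1
  · exact h1 x hx hxN
  · exfalso
    obtain ⟨t, ht⟩ := h.exists_iv
    exact ht.ne (eq_one_of_mem_odd hodd (h1 ht.mem) (n := 1) (by rw [pow_one, pow_two, ht.sq]))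

theorem core_eq_bot [Finite G] {L : Subgroup G} (h : T2 ↥L) : core L = ⊥ := by
  rw [eq_bot_iff]
  intro x hx
  rw [mem_bot]
  exact h.odd (N := core L) (fun l hl n hn => conj_mem_core (le_normalizer hl) hn) (odd_card_core L) (core_le L hx) hx

theorem perfect {L : Subgroup G} (h : T2 ↥L) : L ≤ ⁅L, L⁆ := by
  rcases h.le_or (N := ⁅L, L⁆) (fun l hl n hn _ => by
    have h1 : (⁅L, L⁆ : Subgroup G).map (MulAut.conj l).toMonoidHom = ⁅L, L⁆ := by
      rw [map_commutator]
      have h2 : L.map (MulAut.conj l).toMonoidHom = L := cj_eq_self_of_mem hl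
      rw [h2]
    have h2 : (MulAut.conj l).toMonoidHom n ∈ (⁅L, L⁆ : Subgroup G).map (MulAut.conj l).toMonoidHom := ⟨n, hn, rfl⟩
    rw [h1] at h2
    exact h2) with h1 | h1
  · exfalso
    apply h.not_cm
    intro a ha b hb
    have h2 := h1 ⁅a, b⁆ (by
      rw [commutatorElement_def]
      exact L.mul_mem (L.mul_mem (L.mul_mem ha hb) (L.inv_mem ha)) (L.inv_mem hb)) (commutator_mem_commutator ha hb)
    rwa [commutatorElement_eq_one_iff_mul_comm] at h2
  · exact h1

/-- a perfect subgroup normalising `L` and centralising an involution of `L` centralises `L` -/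
theorem cm_of_perfect {L D : Subgroup G} (h : T2 ↥L) (hD : D ≤ ⁅D, D⁆) (hn : D ≤ normalizer (L : Set G)) {t : G}
    (ht : Iv L t) (hc : ∀ d ∈ D, d * t = t * d) : Cm D L := by
  obtain ⟨f, hf⟩ : ∃ f : ↥D →* MulAut ↥L, ∀ (d : ↥D) (l : ↥L), ((f d l : ↥L) : G) = d * l * (d : G)⁻¹ :=
    ⟨(Subgroup.normalizerMonoidHom L).comp (inclusion hn), fun d l => rfl⟩
  have hDp : (⊤ : Subgroup ↥D) ≤ ⁅(⊤ : Subgroup ↥D), ⊤⁆ := by
    have h1 : ((⊤ : Subgroup ↥D).map D.subtype) ≤ (⁅(⊤ : Subgroup ↥D), ⊤⁆ : Subgroup ↥D).map D.subtype := by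
      rw [map_commutator, ← MonoidHom.range_eq_map, Subgroup.range_subtype]
      exact hD
    exact (Subgroup.map_le_map_iff_of_injective D.subtype_injective).1 h1
  have h1 : f.range = ⊥ := by
    refine h.solv _ ⟨t, ht.mem⟩ (Subtype.ext ht.sq) (fun h1 => ht.ne (congrArg Subtype.val h1)) ?_ ?_
    · rw [MonoidHom.range_eq_map, ← map_commutator]
      exact Subgroup.map_mono hDp
    · rintro _ ⟨d, rfl⟩
      apply Subtype.ext
      rw [hf]
      have h2 := hc d d.2
      show (d : G) * t * (d : G)⁻¹ = t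
      rw [h2, mul_inv_cancel_right]
  intro d hd l hl
  have h2 : f ⟨d, hd⟩ = 1 := by
    have h3 : f ⟨d, hd⟩ ∈ f.range := ⟨_, rfl⟩
    rwa [h1, mem_bot] at h3
  have h3 := hf ⟨d, hd⟩ ⟨l, hl⟩
  rw [h2] at h3
  have h4 : l = d * l * d⁻¹ := h3
  calc d * l = d * l * d⁻¹ * d := by group
    _ = l * d := by rw [← h4]

variable [Finite G]

/-- `L` is a 2-component -/
theorem comp {X L : Subgroup G} (h : T2 ↥L) (hX : Sn X L) : IsComp X L := by
  have := h.sim
  rw [isComp_iff]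
  have hO : oddCore ↥L = ⊥ := by
    rw [eq_bot_iff]
    intro x hx
    have h1 : (x : G) ∈ core L := by
      rw [mem_core_iff x.2]
      exact hx
    rw [h.core_eq_bot, mem_bot] at h1
    rw [mem_bot]
    exact Subtype.ext h1
  have hperf : Group.IsPerfect ↥L := by
    rw [Group.isPerfect_def, eq_top_iff]
    exact TT.PGLSolv.top_le_commutator h.nab
  refine ⟨hX.le, hX.sn, ?_, ?_⟩
  · have e : (↥L ⧸ oddCore ↥L) ≃* ↥L :=
      (QuotientGroup.quotientMulEquivOfEq hO).trans QuotientGroup.quotientBot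
    refine isQuasisimple_of_equiv e.symm ⟨hperf, ?_⟩
    have hc : Subgroup.center ↥L = ⊥ := by
      rw [eq_bot_iff]
      intro x hx
      rw [mem_bot]
      apply Subtype.ext
      refine h.center x.2 fun l hl => ?_
      exact congrArg Subtype.val (mem_center_iff.1 hx ⟨l, hl⟩).symm
    exact ((QuotientGroup.quotientMulEquivOfEq hc).trans QuotientGroup.quotientBot).isSimpleGroup
  · have h2 : Fact (Nat.Prime 2) := ⟨Nat.prime_two⟩
    refine le_antisymm (PComponents.pElem_le L) ?_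
    have hn := PComponents.pElem_normal_subgroupOf (p := 2) L
    rcases hn.eq_bot_or_eq_top with h1 | h1
    · exfalso
      obtain ⟨t, ht⟩ := h.exists_iv
      have h3 : (⟨t, ht.mem⟩ : ↥L) ∈ (PComponents.pElem 2 L).subgroupOf L :=
        PComponents.mem_pElem (p := 2) (n := 1) (y := t) ht.mem (by rw [pow_one, pow_two, ht.sq])
      rw [h1, mem_bot] at h3
      exact ht.ne (congrArg Subtype.val h3)
    · exact subgroupOf_eq_top.1 h1

omit [Finite G] in
theorem _root_.Cfsg.Agent.UGT.BL.Sn.of_comp {X L : Subgroup G} (h : IsComp X L) : Sn X L :=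
  ⟨h.1, h.2.1⟩

end T2

end Cfsg.Agent.UGT.BL
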