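import Cfsg.Agent.SignalizersComponents.IntrinsicBasic

/-!
# Theorem BL: the interface of the closing

`Blk Λ H`: `Λ` is a set of pairwise commuting nonabelian simple subgroups, `H` its stabiliser; involutions of products
of `J ⊆ Λ` (`J ≠ Λ`, `J` has at most one member or at least two members of `Λ` are outside `J`) are fused into `H` only
by `H`.
-/

set_option autoImplicit false

open Subgroup
open Cfsg.Agent.SignalizersComponents.IntrinsicBasic (cj)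

namespace Cfsg.Agent.UGT.BL

/-- the hypotheses of the closing -/
structure Blk {G : Type*} [Group G] (Λ : Set (Subgroup G)) (H : Subgroup G) : Prop where
  comm : ∀ L ∈ Λ, ∀ K ∈ Λ, L ≠ K → L ≤ centralizer (K : Set G)
  simple : ∀ L ∈ Λ, IsSimpleGroup ↥L
  nab : ∀ L ∈ Λ, ¬ ∀ x y : ↥L, x * y = y * x
  inv : ∀ L ∈ Λ, ∃ t ∈ L, orderOf t = 2
  four : ∀ L ∈ Λ, ∀ t ∈ L, orderOf t = 2 → ∃ v ∈ L, orderOf v = 2 ∧ v ≠ t ∧ t * v = v * t
  stab : ∀ g, g ∈ H ↔ ∀ L ∈ Λ, cj g L ∈ Λ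
  two : ∃ L ∈ Λ, ∃ K ∈ Λ, L ≠ K
  sc : ∀ J ⊆ Λ, J ≠ Λ → (J.Subsingleton ∨ (Λ \ J).Nontrivial) → ∀ u ∈ sSup J, orderOf u = 2 →
    ∀ g : G, g * u * g⁻¹ ∈ H → g ∈ H

end Cfsg.Agent.UGT.BL
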