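import Cfsg.Agent.UGT.BL.Main
import Cfsg.Agent.UGT.Blk.SysOf

/-!
# Theorem BL: the input from `Blk.Base` and `Blk.NoAdj`
-/

set_option autoImplicit false

open Cfsg Subgroup
open Cfsg.Agent.SignalizersComponents.IntrinsicBasic
open Cfsg.Agent.Intrinsic.Basic
open Cfsg.Agent.UGT.TMCBase
open scoped commutatorElement

namespace Cfsg.Agent.UGT.BL

universe u

variable {G : Type u} [Group G]

theorem Iv.ord {L : Subgroup G} {t : G} (h : Iv L t) : orderOf t = 2 := P3.orderOf_of_sq h.sq h.ne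

theorem P.of_rel {L K : Subgroup G} (h : Blk.Rel ⊤ L K) : P L K where
  cm := h.comm
  left := fun t ht => by
    have h1 := h.right t ht.mem ht.ord
    rw [top_inf_eq] at h1
    exact ⟨h1.1, h1.2⟩
  right := fun t ht => by
    have h1 := h.left t ht.mem ht.ord
    rw [top_inf_eq] at h1
    exact ⟨h1.1, h1.2⟩

/-- the hypotheses of Theorem BL from `Blk.Base` and no adjacency -/
theorem sys_of_blk [Finite G] {SS : Set (Subgroup G)} (hB : Blk.Base SS) (hN : Blk.NoAdj SS)
    (hT : ∀ L ∈ SS, T2 ↥L) (hne : SS.Nonempty) : Sys SS where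
  conj := fun g L hL => hB.cj_mem L hL g
  ne := hne
  ty := hT
  b1 := fun L hL t ht c hc => hB.cenle hL ht.mem ht.ord (mem_c hc)
  ad := by
    intro L hL K hK t u ht hu htu
    by_cases h1 : L = K
    · exact Or.inl h1
    · exact Or.inr (Cm.symm (hN.adj L hL K hK h1 u hu.mem hu.ord (hB.cenle hL ht.mem ht.ord (mem_c htu.symm))))
  m := by
    intro L hL
    obtain ⟨K, hK, h1⟩ := hB.part L hL
    exact ⟨K, hK, P.of_rel h1⟩

end Cfsg.Agent.UGT.BL
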