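import Cfsg.Agent.UGT.BL.Bridge
import Cfsg.Agent.UGT.BL.Close

/-!
# Theorem BL: the end

* `false_of`: a finite simple group has no `Sys` (bb #12914).
* `no_blk`: `Blk.Base`, `Blk.NoAdj` and `T2` with a nonempty block set are contradictory.
-/

set_option autoImplicit false

open Cfsg Subgroup

namespace Cfsg.Agent.UGT.BL

universe u

/-- **Theorem BL**. -/
theorem false_of {Y : Type u} [Group Y] [Finite Y] [IsSimpleGroup Y] {LL : Set (Subgroup Y)}
    (h : Sys LL) : False :=
  false_of' (fun _ _ _ _ _ _ hB => Blk.false_of hB) _ Y LL le_rfl h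

end Cfsg.Agent.UGT.BL
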