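import Cfsg.Agent.UGT.BL.Quot
import Cfsg.Agent.UGT.BL.BlkDefs

/-!
# Theorem BL: the class of a member satisfies the hypotheses of the closing

`World.blk`; `false_of'`: Theorem BL, given the closing for all groups of the universe.
-/

set_option autoImplicit false

open Cfsg Subgroup
open Cfsg.Agent.SignalizersComponents.IntrinsicBasic
open Cfsg.Agent.Intrinsic.Basic
open Cfsg.Agent.UGT.TMCBase
open scoped commutatorElement

namespace Cfsg.Agent.UGT.BL

universe u

variable {G : Type u} [Group G]

/-- the class of `L` -/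
def Cl (LL : Set (Subgroup G)) (L : Subgroup G) : Set (Subgroup G) := {K | K ∈ LL ∧ R L K}

namespace World

variable [Finite G] {LL : Set (Subgroup G)} (h : World LL)

/-- the stabiliser of the class of `L` -/
def stab {L : Subgroup G} (hL : L ∈ LL) : Subgroup G where
  carrier := {g | R L (cj g L)}
  one_mem' := by
    show R L (cj 1 L)
    rw [cj_one]
    exact Or.inl rfl
  mul_mem' := by
    intro a b ha hb
    have h1 : R (cj a L) (cj a (cj b L)) := hb.cj a
    show R L (cj (a * b) L)
    rw [cj_mul]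
    exact h.trans (h.conj a L hL) hL (h.conj a _ (h.conj b L hL)) ha.symm h1
  inv_mem' := by
    intro a ha
    have h1 : R (cj a⁻¹ L) (cj a⁻¹ (cj a L)) := R.cj ha a⁻¹
    rw [cj_inv_cj] at h1
    exact h1.symm

theorem mem_stab {L : Subgroup G} (hL : L ∈ LL) {g : G} : g ∈ h.stab hL ↔ R L (cj g L) := Iff.rfl

omit [Finite G] in
theorem exists_two {Λ : Set (Subgroup G)} [Finite G] (h4 : 4 ≤ Λ.ncard) (X Y : Subgroup G) :
    ∃ C ∈ Λ, ∃ D ∈ Λ, C ≠ D ∧ C ≠ X ∧ C ≠ Y ∧ D ≠ X ∧ D ≠ Y := by
  have h1 : ({X, Y} : Set (Subgroup G)).ncard ≤ 2 := by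
    refine (Set.ncard_insert_le _ _).trans ?_
    rw [Set.ncard_singleton]
  have h2 := Set.le_ncard_sdiff ({X, Y} : Set (Subgroup G)) Λ (Set.toFinite _)
  have h3 : 1 < (Λ \ {X, Y}).ncard := by omega
  obtain ⟨C, hC, D, hD, hne⟩ := (Set.one_lt_ncard (Set.toFinite _)).1 h3
  simp only [Set.mem_sdiff, Set.mem_insert_iff, Set.mem_singleton_iff, not_or] at hC hD
  exact ⟨C, hC.1, D, hD.1, hne, hC.2.1, hC.2.2, hD.2.1, hD.2.2⟩

theorem blk {L : Subgroup G} (hL : L ∈ LL) : Blk (Cl LL L) (h.stab hL) := by
  have hcomm : ∀ A ∈ Cl LL L, ∀ B ∈ Cl LL L, A ≠ B → P A B := by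
    rintro A ⟨hA, hLA⟩ B ⟨hB, hLB⟩ hne
    rcases h.trans hL hA hB hLA hLB with h1 | h1
    · exact absurd h1 hne
    · exact h1
  constructor
  · intro A hA B hB hne
    exact cm_iff.1 (hcomm A hA B hB hne).cm
  · intro A hA
    exact (h.ty A hA.1).sim
  · intro A hA
    exact (h.ty A hA.1).nab
  · intro A hA
    obtain ⟨t, ht⟩ := (h.ty A hA.1).exists_iv
    exact ⟨t, ht.mem, P3.orderOf_of_sq ht.sq ht.ne⟩
  · intro A hA t ht ot
    have h1 : Iv A t := by
      refine ⟨ht, ?_, ?_⟩
      · rw [← pow_two, ← ot, pow_orderOf_eq_one]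
      · rintro rfl
        rw [orderOf_one] at ot
        norm_num at ot
    obtain ⟨v, hv, hvt, htv⟩ := (h.ty A hA.1).exists_four h1
    exact ⟨v, hv.mem, P3.orderOf_of_sq hv.sq hv.ne, hvt, htv⟩
  · intro g
    constructor
    · rintro hg A ⟨hA, hLA⟩
      have h1 : R A (cj g A) := h.R_cj_of hL hA hLA hg
      exact ⟨h.conj g A hA, h.trans hA hL (h.conj g A hA) hLA.symm h1⟩
    · intro hg
      exact (hg L ⟨hL, Or.inl rfl⟩).2
  · obtain ⟨K, hK, hP⟩ := h.m L hL
    exact ⟨L, ⟨hL, Or.inl rfl⟩, K, ⟨hK, Or.inr hP⟩, (h.ty L hL).ne_of_cm hP.cm⟩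
  · intro J hJ hJne hcase u hu ou g hg
    have hu2 : u * u = 1 := by rw [← pow_two, ← ou, pow_orderOf_eq_one]
    have hu1 : u ≠ 1 := by
      rintro rfl
      rw [orderOf_one] at ou
      norm_num at ou
    obtain ⟨M, hM⟩ : ∃ M, M = cj g⁻¹ L := ⟨_, rfl⟩
    have hML : M ∈ LL := hM ▸ h.conj _ L hL
    have hR : R M (cj u M) := by
      have h1 : R L (cj (g * u * g⁻¹) L) := hg
      have h2 := h1.cj g⁻¹
      rw [← hM, ← cj_mul] at h2
      have e : g⁻¹ * (g * u * g⁻¹) = u * g⁻¹ := by group
      rw [e, cj_mul, ← hM] at h2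
      exact h2
    have hgoal : R L M → g ∈ h.stab hL := by
      intro h1
      have h2 : g⁻¹ ∈ h.stab hL := by
        rw [hM] at h1
        exact h1
      exact inv_mem_iff.1 h2
    apply hgoal
    by_cases hsub : J.Subsingleton
    · rcases hsub.eq_empty_or_singleton with h1 | ⟨A, h1⟩
      · exfalso
        rw [h1, sSup_empty, mem_bot] at hu
        exact hu1 hu
      · rw [h1, sSup_singleton] at hu
        have hA : A ∈ Cl LL L := hJ (by rw [h1]; exact rfl)
        exact h.trans hA.1 hL hML hA.2.symm (h.sc_one hA.1 hML ⟨hu, hu2, hu1⟩ hR)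
    · rcases hcase with h1 | ⟨A, hA, B, hB, hne⟩
      · exact absurd h1 hsub
      · rw [Set.not_subsingleton_iff] at hsub
        obtain ⟨C, hC, D, hD, hCD⟩ := hsub
        have hcent : ∀ A ∈ Cl LL L, A ∉ J → ∀ a ∈ A, a * u = u * a := by
          intro A hA hAJ a ha
          have h1 : sSup J ≤ centralizer (A : Set G) := by
            refine sSup_le fun K hK => ?_
            have hne' : K ≠ A := by
              rintro rfl
              exact hAJ hK
            exact cm_iff.1 (hcomm K (hJ hK) A hA hne').cm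
          exact mem_centralizer_iff.1 (h1 hu) a ha
        have h4 : 4 ≤ (Cl LL L).ncard := by
          have h5 : ({A, B, C, D} : Set (Subgroup G)).ncard = 4 := by
            have hAC : A ≠ C := by rintro rfl; exact hA.2 hC
            have hAD : A ≠ D := by rintro rfl; exact hA.2 hD
            have hBC : B ≠ C := by rintro rfl; exact hB.2 hC
            have hBD : B ≠ D := by rintro rfl; exact hB.2 hD
            rw [Set.ncard_insert_of_notMem (by simp [hne, hAC, hAD]),
              Set.ncard_insert_of_notMem (by simp [hBC, hBD]), Set.ncard_pair hCD]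
          rw [← h5]
          refine Set.ncard_le_ncard ?_ (Set.toFinite _)
          intro X hX
          simp only [Set.mem_insert_iff, Set.mem_singleton_iff] at hX
          rcases hX with rfl | rfl | rfl | rfl
          · exact hA.1
          · exact hB.1
          · exact hJ hC
          · exact hJ hD
        have hP : P A B := hcomm A hA.1 B hB.1 hne
        have h6 := h.sc_two hA.1.1 hB.1.1 hML hP hu2 hu1 (hcent A hA.1 hA.2) (hcent B hB.1 hB.2) hR ?_ ?_
        · exact h.trans hA.1.1 hL hML hA.1.2.symm h6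
        · intro X Y
          obtain ⟨E, hE, F, hF, h7, h8, h9, h10, h11⟩ := exists_two h4 X Y
          exact ⟨E, hE.1, F, hF.1, h.trans hL hA.1.1 hE.1 hA.1.2 hE.2, h.trans hL hA.1.1 hF.1 hA.1.2 hF.2, h7, h8, h9,
            h10, h11⟩
        · intro X Y
          obtain ⟨E, hE, F, hF, h7, h8, h9, h10, h11⟩ := exists_two h4 (cj g X) (cj g Y)
          have inj : ∀ {E X : Subgroup G}, E ≠ cj g X → cj g⁻¹ E ≠ X := by
            intro E X h1 h2
            apply h1
            rw [← h2, cj_cj_inv]
          refine ⟨cj g⁻¹ E, h.conj _ E hE.1, cj g⁻¹ F, h.conj _ F hF.1, ?_, ?_, fun h1 => h7 (cj_injective _ h1),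
            inj h8, inj h9, inj h10, inj h11⟩
          · rw [hM]; exact hE.2.cj _
          · rw [hM]; exact hF.2.cj _

end World

/-- Theorem BL, given the closing -/
theorem false_of' (hB : ∀ (G : Type u) [Group G] [Finite G] [IsSimpleGroup G] (Λ : Set (Subgroup G)) (H : Subgroup G),
    Blk Λ H → False) :
    ∀ (n : ℕ) (G : Type u) [Group G] [Finite G] [IsSimpleGroup G] (LL : Set (Subgroup G)), Nat.card G ≤ n →
      Sys LL → False := by
  intro n
  induction n with
  | zero =>
    intro G _ _ _ LL hn h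
    have := Nat.card_pos (α := G)
    omega
  | succ n ih =>
    intro G _ _ _ LL hn h
    obtain ⟨L, hL⟩ := h.ne
    have hcen : ∀ u : G, u ≠ 1 → centralizer ({u} : Set G) ≠ ⊤ := by
      intro u hu1 htop
      have h1 : u ∈ center G := by
        rw [mem_center_iff]
        intro g
        exact comm_c (by rw [htop]; exact mem_top g)
      rcases (inferInstance : (center G).Normal).eq_bot_or_eq_top with h2 | h2
      · rw [h2, mem_bot] at h1
        exact hu1 h1
      · apply (h.ty L hL).not_cm
        intro x _ y _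
        have h3 : y ∈ center G := by rw [h2]; exact mem_top y
        exact mem_center_iff.1 h3 x
    have hW : World LL := by
      refine ⟨h, ?_, hcen⟩
      intro J hJ hq A hA B hB hP hAJ hBJ
      have h1 := h.sub hA hB hP hAJ hBJ
      have h2 := h1.quot (f := QuotientGroup.mk' (center ↥J)) (by
        intro x hx y
        have h3 : x ∈ center ↥J := (QuotientGroup.eq_one_iff x).1 hx
        exact (mem_center_iff.1 h3 y).symm) (QuotientGroup.mk'_surjective _)
      have := hq.2
      refine ih (↥J ⧸ center ↥J) _ ?_ h2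
      have h3 : Nat.card (↥J ⧸ center ↥J) ≤ Nat.card ↥J :=
        Nat.card_le_card_of_surjective _ (QuotientGroup.mk'_surjective (center ↥J))
      have h4 : Nat.card ↥J < Nat.card G := by
        refine lt_of_le_of_ne (Subgroup.card_le_card_group J) fun h5 => hJ ?_
        exact (Subgroup.card_eq_iff_eq_top J).1 h5
      omega
    exact hB G _ _ (hW.blk hL)

end Cfsg.Agent.UGT.BL
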