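import Cfsg.Agent.UGT.BL.Basic

/-!
# Theorem BL: pump-up

* `Sys.odd_cm` (C): every odd group normalised by a member of `LL` is centralised by it;
* `Sys.pump` (1): `L ∈ LL` a 2-component of `C(τ)`, `u` an involution of `C(L) ∩ C(τ)`: `L` lies in a 2-component
  `J` of `C(u)`, `L` is a 2-component of `C_J(τ)`;
* `Sys.eq_of_fixes`: if moreover `τ` centralises `J / O(J)`, then `L = J`;
* `Sys.quasisimple`: 2-components of centralisers containing a member of `LL` are quasisimple.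
-/

set_option autoImplicit false

open Cfsg Subgroup
open Cfsg.Agent.SignalizersComponents Cfsg.Agent.Lib
open Cfsg.Agent.SignalizersComponents.IntrinsicBasic
open Cfsg.Agent.SignalizersComponents.IntrinsicIntr
open Cfsg.Agent.SignalizersComponents.PLayerAut
open Cfsg.Agent.Intrinsic.Basic Cfsg.Agent.Intrinsic.Cen Cfsg.Agent.Intrinsic.Diag
open Cfsg.Agent.McLLyComp.Act
open Cfsg.Agent.UGT.TMCBase
open scoped commutatorElement

namespace Cfsg.Agent.UGT.BL

variable {G : Type*} [Group G]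

/-! ### fixed points -/

/-- an involution acting on a coset of an odd group has a fixed point there -/
theorem exists_fixed_coset [Finite G] {N : Subgroup G} (hodd : Odd (Nat.card N)) {m k : G} (hm : m * m = 1)
    (hmN : ∀ n ∈ N, m * n * m⁻¹ ∈ N) (hk : k⁻¹ * (m * k * m⁻¹) ∈ N) : ∃ n ∈ N, (k * n) * m = m * (k * n) := by
  classical
  have : Fintype G := Fintype.ofFinite G
  have : Fact (Nat.Prime 2) := ⟨Nat.prime_two⟩
  have hmi : m⁻¹ = m := inv_of_sq hm
  let f : Function.End ↥N := fun n => ⟨k⁻¹ * (m * (k * n) * m⁻¹), by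
    have h1 : k⁻¹ * (m * (k * n) * m⁻¹) = k⁻¹ * (m * k * m⁻¹) * (m * n * m⁻¹) := by group
    rw [h1]
    exact mul_mem hk (hmN n n.2)⟩
  have hf : f ^ 2 ^ 1 = 1 := by
    funext n
    apply Subtype.ext
    show k⁻¹ * (m * (k * (k⁻¹ * (m * (k * n) * m⁻¹))) * m⁻¹) = n
    have h1 : k⁻¹ * (m * (k * (k⁻¹ * (m * (k * n) * m⁻¹))) * m⁻¹) = k⁻¹ * ((m * m) * (k * n) * (m * m)⁻¹) := by group
    rw [h1, hm]; group
  have h3 := Equiv.Perm.card_fixedPoints_modEq (f := f) (p := 2) (n := 1) hf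
  have h4 : 0 < Fintype.card f.fixedPoints := by
    rw [Nat.pos_iff_ne_zero]
    intro h5
    rw [h5, ← Nat.card_eq_fintype_card] at h3
    exact (Nat.not_even_iff_odd.2 hodd) (Nat.even_iff.2 h3)
  obtain ⟨⟨n, hn⟩⟩ := Fintype.card_pos_iff.1 h4
  refine ⟨n, n.2, ?_⟩
  have h5 : k⁻¹ * (m * (k * n) * m⁻¹) = n := congrArg Subtype.val hn
  calc k * n * m = k * (k⁻¹ * (m * (k * n) * m⁻¹)) * m := by rw [h5]
    _ = m * (k * n) := by group

namespace Sys

variable {LL : Set (Subgroup G)} (h : Sys LL)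
include h

/-- (S) distinct members share no involution -/
theorem eq_of_iv {L K : Subgroup G} (hL : L ∈ LL) (hK : K ∈ LL) {t : G} (h1 : Iv L t) (h2 : Iv K t) : L = K := by
  rcases h.ad L hL K hK t t h1 h2 rfl with h3 | h3
  · exact h3
  · exact absurd ((h.ty L hL).inf_of_cm h3 h1.mem h2.mem) h1.ne

variable [Finite G]

/-- (C) -/
theorem odd_cm {L O : Subgroup G} (hL : L ∈ LL) (hodd : Odd (Nat.card O)) (hn : L ≤ normalizer (O : Set G)) :
    Cm O L := by
  have hT := h.ty L hL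
  obtain ⟨t, ht⟩ := hT.exists_iv
  obtain ⟨v, hv, hvt, htv⟩ := hT.exists_four ht
  have htv' : Iv L (t * v) := by
    refine ⟨L.mul_mem ht.mem hv.mem, ?_, P3.mul_ne_one_of_ne hv.sq (Ne.symm hvt)⟩
    calc t * v * (t * v) = t * (v * t) * v := by group
      _ = (t * t) * (v * v) := by rw [← htv]; group
      _ = 1 := by rw [ht.sq, hv.sq, one_mul]
  have key : ∀ s, Iv L s → ∀ z ∈ O, z * s = s * z → z ∈ centralizer (L : Set G) := by
    intro s hs z hz hzs
    have hzN := h.b1 L hL s hs z hzs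
    rw [mem_centralizer_iff]
    intro l hl
    have h1 : z * l * z⁻¹ * l⁻¹ = 1 := by
      refine hT.odd (N := O) (fun l hl n hn' => (mem_normalizer_iff.1 (hn hl) n).1 hn') hodd ?_ ?_
      · exact L.mul_mem ((mem_normalizer_iff.1 hzN l).1 hl) (L.inv_mem hl)
      · have e : z * l * z⁻¹ * l⁻¹ = z * (l * z⁻¹ * l⁻¹) := by group
        rw [e]
        exact O.mul_mem hz ((mem_normalizer_iff.1 (hn hl) _).1 (O.inv_mem hz))
    have h2 : z * l * z⁻¹ = l := mul_inv_eq_one.1 h1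
    calc l * z = z * l * z⁻¹ * z := by rw [h2]
      _ = z * l := by group
  have h1 : O ≤ centralizer (L : Set G) := P3.odd_gen hodd ht.sq hv.sq htv ht.ne hv.ne (Ne.symm hvt) (hn ht.mem)
    (hn hv.mem) (key t ht) (key v hv) (key _ htv')
  exact cm_iff.2 h1

/-- the core of a group normalised by `L` is centralised by `L` -/
theorem core_cm {L X : Subgroup G} (hL : L ∈ LL) (hn : L ≤ normalizer (X : Set G)) : Cm (core X) L :=
  h.odd_cm hL (odd_card_core X) (hn.trans (normalizer_le_normalizer_core X))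

/-- no diagonal pump-ups -/
theorem no_diag {L J : Subgroup G} {τ u : G} (hL : L ∈ LL) (hτ : τ * τ = 1) (huτ : τ * u = u * τ)
    (hLX : IsComp (centralizer ({u} : Set G) ⊓ centralizer ({τ} : Set G)) L)
    (hJ : IsComp (centralizer ({u} : Set G)) J) (hne : cj τ J ≠ J)
    (hd : L = diag (centralizer ({u} : Set G)) J τ) : False := by
  have hT := h.ty L hL
  obtain ⟨X, hX⟩ : ∃ X, X = centralizer ({u} : Set G) := ⟨_, rfl⟩
  rw [← hX] at hLX hJ hd
  have hτX : τ ∈ X := by rw [hX]; exact mem_c huτ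
  obtain ⟨-, hd2, -⟩ := exists_diag hJ hτX hτ hne
  rw [← hd] at hd2
  have hJ' : IsComp X (IntrinsicBasic.cj τ J) := isComp_cj_of_mem hJ hτX
  have hLτ : ∀ l ∈ L, l * τ = τ * l := fun l hl => comm_c (hLX.le hl).2
  have hLX' : L ≤ X := fun l hl => (hLX.le hl).1
  have hLN : L ≤ normalizer (J : Set G) := (isComp_le_L2 hτX hτ hLX).trans hJ.L2_le_normalizer
  -- `L ∩ J = 1`
  have hinf : ∀ x ∈ L, x ∈ J → x = 1 := by
    rcases hT.le_or (N := J) (fun l hl n hn _ => (mem_normalizer_iff.1 (hLN hl) n).1 hn) with h1 | h1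
    · exact h1
    · exfalso
      have h2 : L ≤ IntrinsicBasic.cj τ J := by
        intro l hl
        rw [mem_cj]
        have e : τ⁻¹ * l * τ = l := by
          calc τ⁻¹ * l * τ = τ⁻¹ * (l * τ) := by group
            _ = l := by rw [hLτ l hl]; group
        rw [e]
        exact h1 hl
      have h3 : L ≤ core J := by
        refine (hT.perfect).trans ((commutator_mono h1 h2).trans ?_)
        exact (hJ.comm_le_core hJ' (Ne.symm hne)).trans inf_le_left
      obtain ⟨t, ht⟩ := hT.exists_iv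
      exact ht.ne (eq_one_of_mem_core_sq (h3 ht.mem) ht.sq)
  have hJN : ∀ x ∈ J, x ∈ normalizer (L : Set G) → ∀ l ∈ L, x * l = l * x := by
    intro x hx hxN l hl
    have h1 : x * l * x⁻¹ * l⁻¹ = 1 := by
      refine hinf _ (L.mul_mem ((mem_normalizer_iff.1 hxN l).1 hl) (L.inv_mem hl)) ?_
      have e : x * l * x⁻¹ * l⁻¹ = x * (l * x⁻¹ * l⁻¹) := by group
      rw [e]
      exact J.mul_mem hx ((mem_normalizer_iff.1 (hLN hl) _).1 (J.inv_mem hx))
    have h2 : x * l * x⁻¹ = l := mul_inv_eq_one.1 h1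
    calc x * l = x * l * x⁻¹ * x := by group
      _ = l * x := by rw [h2]
  obtain ⟨m, hm⟩ := hT.exists_iv
  obtain ⟨k, hk, hmk⟩ := hd2 m hm.mem
  -- `[k, m] ∈ core X ∩ J = core J`
  have hmN : m ∈ normalizer (J : Set G) := hLN hm.mem
  have hmX : m ∈ X := hLX' hm.mem
  have hkX : k ∈ X := hJ.le hk
  have hcore : core J = J ⊓ core X := hJ.core_eq
  have hk' : τ * k * τ⁻¹ ∈ IntrinsicBasic.cj τ J := conj_mem_cj hk
  have e1 := mk_of_diag hJ hτX hmX hk hmk
  have e2 := mk_comm hJ hJ' (Ne.symm hne) hk hk'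
  have hkm : k⁻¹ * (m * k * m⁻¹) ∈ core J := by
    rw [hcore]
    refine ⟨J.mul_mem (J.inv_mem hk) ((mem_normalizer_iff.1 hmN k).1 hk), ?_⟩
    have h1 : (QuotientGroup.mk' (oddCore ↥X)) ⟨m, hmX⟩ * (QuotientGroup.mk' (oddCore ↥X)) ⟨k, hkX⟩ =
        (QuotientGroup.mk' (oddCore ↥X)) ⟨k, hkX⟩ * (QuotientGroup.mk' (oddCore ↥X)) ⟨m, hmX⟩ := by
      rw [e1, mul_assoc, ← e2]
    have h2 : ⁅m, k⁆ ∈ core X := (commutator_mem_core_iff hmX hkX).2 h1
    have e : k⁻¹ * (m * k * m⁻¹) = k⁻¹ * ⁅m, k⁆ * k⁻¹⁻¹ := by rw [commutatorElement_def]; group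
    rw [e]
    exact conj_mem_core (le_normalizer (X.inv_mem hkX)) h2
  obtain ⟨n, hn, hnc⟩ := exists_fixed_coset (odd_card_core J) hm.sq
    (fun n hn => conj_mem_core hmN hn) hkm
  obtain ⟨c, hc⟩ : ∃ c, c = k * n := ⟨_, rfl⟩
  rw [← hc] at hnc
  have hcJ : c ∈ J := by rw [hc]; exact J.mul_mem hk (core_le J hn)
  have hcN := h.b1 L hL m hm c hnc
  have hcL := hJN c hcJ hcN
  have hcL' : ∀ l ∈ L, (τ * c * τ⁻¹) * l = l * (τ * c * τ⁻¹) := by
    intro l hl
    have h1 := hLτ l hl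
    have h2 : τ⁻¹ * l = l * τ⁻¹ := by
      calc τ⁻¹ * l = τ⁻¹ * (l * τ) * τ⁻¹ := by group
        _ = l * τ⁻¹ := by rw [h1]; group
    calc (τ * c * τ⁻¹) * l = τ * c * (τ⁻¹ * l) := by group
      _ = τ * (c * l) * τ⁻¹ := by rw [h2]; group
      _ = (τ * l) * c * τ⁻¹ := by rw [hcL l hl]; group
      _ = l * (τ * c * τ⁻¹) := by rw [← h1]; group
  have hcoreX : Cm (core X) L := h.core_cm hL (hLX'.trans le_normalizer)
  have hnX : n ∈ core X := by
    have := hcore ▸ hn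
    exact this.2
  have hmc : m⁻¹ * (c * (τ * c * τ⁻¹)) ∈ core X := by
    have e : m⁻¹ * (c * (τ * c * τ⁻¹)) = (m⁻¹ * (k * (τ * k * τ⁻¹))) *
        ((τ * k * τ⁻¹)⁻¹ * n * (τ * k * τ⁻¹)⁻¹⁻¹) * (τ * n * τ⁻¹) := by rw [hc]; group
    rw [e]
    refine mul_mem (mul_mem hmk ?_) ?_
    · exact conj_mem_core (le_normalizer (X.inv_mem (X.mul_mem (X.mul_mem hτX hkX) (X.inv_mem hτX)))) hnX
    · exact conj_mem_core (le_normalizer hτX) hnX
  apply hm.ne
  refine hT.center hm.mem fun l hl => ?_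
  have h1 := hcoreX _ hmc l hl
  have h2 := hcL l hl
  have h3 := hcL' l hl
  obtain ⟨o, ho⟩ : ∃ o, o = m⁻¹ * (c * (τ * c * τ⁻¹)) := ⟨_, rfl⟩
  rw [← ho] at h1
  have e : m = (c * (τ * c * τ⁻¹)) * o⁻¹ := by rw [ho]; group
  have c1 : Commute c l := h2
  have c2 : Commute (τ * c * τ⁻¹) l := h3
  have c3 : Commute o l := h1
  rw [e]
  exact ((c1.mul_left c2).mul_left c3.inv_left).eq

/-- (1) pump-up -/
theorem pump {L : Subgroup G} {τ u : G} (hL : L ∈ LL) (hτ : τ * τ = 1) (huτ : τ * u = u * τ)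
    (hs : Sn (centralizer ({τ} : Set G)) L) (hLu : ∀ l ∈ L, l * u = u * l) :
    ∃ J, IsComp (centralizer ({u} : Set G)) J ∧ L ≤ J ∧ τ ∈ normalizer (J : Set G) ∧
      Sn (J ⊓ centralizer ({τ} : Set G)) L := by
  have hT := h.ty L hL
  have h1 : Sn (centralizer ({u} : Set G) ⊓ centralizer ({τ} : Set G)) L :=
    hs.restrict inf_le_right (le_inf (fun l hl => mem_c (hLu l hl)) hs.le)
  obtain ⟨J, hJ, -, h2⟩ := McLLyComp.PumpT.exists_pump (mem_c huτ) hτ (hT.comp h1)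
  rcases h2 with ⟨h3, h4⟩ | ⟨h3, h4⟩
  · exact ⟨J, hJ, h4, h3, h1.restrict (inf_le_inf_right _ hJ.le) (le_inf h4 hs.le)⟩
  · exact (h.no_diag hL hτ huτ (hT.comp h1) hJ h3 h4).elim

/-- trivial pump-ups -/
theorem eq_of_fixes {L J X : Subgroup G} {τ : G} (hL : L ∈ LL) (hτ : τ * τ = 1) (hτX : τ ∈ X)
    (hJ : IsComp X J) (hLJ : L ≤ J) (hs : Sn (J ⊓ centralizer ({τ} : Set G)) L) (hf : Fixes τ J) : L = J := by
  have hT := h.ty L hL
  obtain ⟨h1, h2⟩ := isComp_cen hJ hτX hτ hf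
  have h3 : IsComp (X ⊓ centralizer ({τ} : Set G)) L := PumpGen.isComp_of_inf hJ (hT.comp hs)
  have h4 : L ≤ cen J τ := by
    rw [← (hT.comp hs).pElem_eq]
    exact PComponents.pElem_mono hs.le
  have h5 : L = cen J τ := h3.eq_of_le h1 h4
  rw [← h5] at h2
  refine le_antisymm hLJ (hJ.le_of_two fun k hk n hn => ?_)
  obtain ⟨j, hj, hjk⟩ := exists_mul_of_sup h2 hk
  have h6 := h.core_cm hL (X := J) (hLJ.trans le_normalizer)
  obtain ⟨o, ho⟩ : ∃ o, o = j⁻¹ * k := ⟨_, rfl⟩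
  rw [← ho] at hjk
  have e : k = j * o := by rw [ho]; group
  have h7 : Commute j o := (h6 o hjk j hj).symm
  have h8 : j ^ 2 ^ n * o ^ 2 ^ n = 1 := by rw [← h7.mul_pow, ← e, hn]
  have h9 : o ^ 2 ^ n = 1 := by
    refine hT.odd (N := core J) (fun l hl x hx => conj_mem_core (le_normalizer (hLJ hl)) hx) (odd_card_core J) ?_
      (pow_mem hjk _)
    rw [eq_inv_of_mul_eq_one_right h8]
    exact L.inv_mem (L.pow_mem hj _)
  rw [e, eq_one_of_mem_core hjk h9, mul_one]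
  exact hj

/-- a 2-component containing a member of `LL` is quasisimple -/
theorem quasisimple {L J X : Subgroup G} (hL : L ∈ LL) (hJ : IsComp X J) (hLJ : L ≤ J) : IsQuasisimple ↥J := by
  have hT := h.ty L hL
  refine RelK.Sub.isQuasisimple_of_core hJ ?_
  have h6 := h.core_cm hL (X := J) (hLJ.trans le_normalizer)
  have hJJ : IsComp J J := hJ.restrict hJ.le le_rfl
  obtain ⟨S, hS⟩ : ∃ S, S = J ⊓ centralizer (core J : Set G) := ⟨_, rfl⟩
  have hSn : (S.subgroupOf J).IsSubnormal := by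
    refine Normal.isSubnormal ⟨fun n hn g => ?_⟩
    rw [mem_subgroupOf, hS] at hn ⊢
    refine ⟨J.mul_mem (J.mul_mem g.2 n.2) (J.inv_mem g.2), mem_centralizer_iff.2 fun y hy => ?_⟩
    have h1 : (g : G)⁻¹ * y * g ∈ core J := by
      have := conj_mem_core (le_normalizer (J.inv_mem g.2)) hy
      rwa [inv_inv] at this
    have h2 := mem_centralizer_iff.1 hn.2 _ h1
    show y * ((g : G) * n * (g : G)⁻¹) = (g : G) * n * (g : G)⁻¹ * y
    calc y * ((g : G) * n * (g : G)⁻¹) = g * (((g : G)⁻¹ * y * g) * n) * (g : G)⁻¹ := by group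
      _ = g * (n * ((g : G)⁻¹ * y * g)) * (g : G)⁻¹ := by rw [h2]
      _ = (g : G) * n * (g : G)⁻¹ * y := by group
  have hLS : L ≤ S := by
    rw [hS]
    exact le_inf hLJ (cm_iff.1 h6.symm)
  rcases hJJ.le_or_comm (by rw [hS]; exact inf_le_left) hSn with h1 | h1
  · rw [Subgroup.le_centralizer_iff]
    rw [hS] at h1
    exact h1.trans inf_le_right
  · exfalso
    obtain ⟨t, ht⟩ := hT.exists_iv
    have h2 := hT.perfect.trans ((commutator_mono hLJ hLS).trans h1)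
    exact ht.ne (eq_one_of_mem_core_sq (h2 ht.mem) ht.sq)

end Sys

end Cfsg.Agent.UGT.BL
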