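import Cfsg.Agent.UGT.BL.Rel

/-!
# Theorem BL: subgroups and central quotients

* `Sys.sub`: `Sys` for a subgroup `J` containing two partners;
* `Sys.quot`: `Sys` for a central quotient.
-/

set_option autoImplicit false

open Cfsg Subgroup
open Cfsg.Agent.SignalizersComponents.IntrinsicBasic
open Cfsg.Agent.Intrinsic.Basic
open Cfsg.Agent.UGT.TMCBase
open scoped commutatorElement

namespace Cfsg.Agent.UGT.BL

section sub

variable {G : Type*} [Group G]

/-- the members below `J` with a partner below `J` -/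
def Below (LL : Set (Subgroup G)) (J : Subgroup G) : Set (Subgroup ↥J) :=
  {L' | ∃ L ∈ LL, L ≤ J ∧ (∃ K ∈ LL, K ≤ J ∧ P L K) ∧ L' = L.subgroupOf J}

theorem Iv.of_sub {L J : Subgroup G} {t : ↥J} (h : Iv (L.subgroupOf J) t) : Iv L (t : G) :=
  ⟨h.mem, congrArg Subtype.val h.sq, fun h1 => h.ne (Subtype.ext h1)⟩

theorem cj_sub {L J : Subgroup G} (g : ↥J) : cj g (L.subgroupOf J) = (cj (g : G) L).subgroupOf J := by
  ext x
  rw [mem_cj, mem_subgroupOf, mem_subgroupOf, mem_cj]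
  rfl

theorem Sn.sub {K J : Subgroup G} {t : ↥J} (h : Sn (centralizer ({(t : G)} : Set G)) K) :
    Sn (centralizer ({t} : Set ↥J)) (K.subgroupOf J) := by
  constructor
  · intro x hx
    exact mem_c (Subtype.ext (comm_c (h.le hx)))
  · obtain ⟨f, hf⟩ : ∃ f : ↥(centralizer ({t} : Set ↥J)) →* ↥(centralizer ({(t : G)} : Set G)),
        ∀ x, (f x : G) = ((x : ↥J) : G) := by
      refine ⟨⟨⟨fun x => ⟨((x : ↥J) : G), ?_⟩, ?_⟩, ?_⟩, fun x => rfl⟩
      · exact mem_c (congrArg Subtype.val (comm_c x.2))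
      · rfl
      · intro x y
        rfl
    have h1 := h.sn.comap f
    have h2 : (K.subgroupOf J).subgroupOf (centralizer ({t} : Set ↥J)) =
        (K.subgroupOf (centralizer ({(t : G)} : Set G))).comap f := by
      ext x
      rw [mem_subgroupOf, mem_subgroupOf, mem_comap, mem_subgroupOf, hf]
    rw [h2]
    exact h1

theorem P.sub {L K J : Subgroup G} (h : P L K) : P (L.subgroupOf J) (K.subgroupOf J) where
  cm := fun x hx y hy => Subtype.ext (h.cm x hx y hy)
  left := fun t ht => (h.left t ht.of_sub).sub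
  right := fun t ht => (h.right t ht.of_sub).sub

theorem Sys.sub {LL : Set (Subgroup G)} (h : Sys LL) {J A B : Subgroup G} (hA : A ∈ LL) (hB : B ∈ LL)
    (hP : P A B) (hAJ : A ≤ J) (hBJ : B ≤ J) : Sys (Below LL J) where
  conj := by
    rintro g _ ⟨L, hL, hLJ, ⟨K, hK, hKJ, hLK⟩, rfl⟩
    have key : ∀ M : Subgroup G, M ≤ J → cj (g : G) M ≤ J := by
      intro M hM x hx
      rw [mem_cj] at hx
      have e : x = g * ((g : G)⁻¹ * x * g) * (g : G)⁻¹ := by group
      rw [e]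
      exact J.mul_mem (J.mul_mem g.2 (hM hx)) (J.inv_mem g.2)
    exact ⟨cj (g : G) L, h.conj _ L hL, key L hLJ, ⟨cj (g : G) K, h.conj _ K hK, key K hKJ, hLK.cj _⟩, cj_sub g⟩
  ne := ⟨_, A, hA, hAJ, ⟨B, hB, hBJ, hP⟩, rfl⟩
  ty := by
    rintro _ ⟨L, hL, hLJ, -, rfl⟩
    exact (h.ty L hL).congr (subgroupOfEquivOfLe hLJ).symm
  b1 := by
    rintro _ ⟨L, hL, hLJ, -, rfl⟩ t ht c hc
    have h1 := h.b1 L hL t ht.of_sub c (congrArg Subtype.val hc)
    rw [mem_normalizer_iff_cj] at h1 ⊢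
    rw [cj_sub, h1]
  ad := by
    rintro _ ⟨L, hL, hLJ, -, rfl⟩ _ ⟨K, hK, hKJ, -, rfl⟩ t u ht hu htu
    rcases h.ad L hL K hK t u ht.of_sub hu.of_sub (congrArg Subtype.val htu) with h1 | h1
    · exact Or.inl (by rw [h1])
    · exact Or.inr fun x hx y hy => Subtype.ext (h1 x hx y hy)
  m := by
    rintro _ ⟨L, hL, hLJ, ⟨K, hK, hKJ, hLK⟩, rfl⟩
    exact ⟨_, ⟨K, hK, hKJ, ⟨L, hL, hLJ, hLK.symm⟩, rfl⟩, hLK.sub⟩

end sub

section quot

variable {G Q : Type*} [Group G] [Group Q] {f : G →* Q}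

theorem cj_map (g : G) (L : Subgroup G) : cj (f g) (L.map f) = (cj g L).map f := by
  rw [cj_def, cj_def, Subgroup.map_map, Subgroup.map_map]
  congr 1
  ext x
  simp

theorem Sn.map {X K : Subgroup G} (h : Sn X K) : Sn (X.map f) (K.map f) := by
  refine ⟨Subgroup.map_mono h.le, ?_⟩
  have h1 := h.sn.map (f := f.subgroupMap X) (f.subgroupMap_surjective X)
  have h2 : (K.map f).subgroupOf (X.map f) = (K.subgroupOf X).map (f.subgroupMap X) := by
    ext x
    rw [mem_subgroupOf]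
    constructor
    · rintro ⟨y, hy, hyx⟩
      exact ⟨⟨y, h.le hy⟩, hy, Subtype.ext hyx⟩
    · rintro ⟨y, hy, hyx⟩
      exact ⟨y, hy, congrArg Subtype.val hyx⟩
  rw [h2]
  exact h1

variable {LL : Set (Subgroup G)} (h : Sys LL) (hf : ∀ x, f x = 1 → ∀ y, x * y = y * x)
include h hf

theorem Sys.inj {L : Subgroup G} (hL : L ∈ LL) {x : G} (hx : x ∈ L) (hx1 : f x = 1) : x = 1 :=
  (h.ty L hL).center hx fun l _ => hf x hx1 l

theorem Sys.comm_of_map {L : Subgroup G} (hL : L ∈ LL) {t c : G} (ht : Iv L t) (hc : f c * f t = f t * f c) :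
    c * t = t * c := by
  obtain ⟨z, hz⟩ : ∃ z, z = c * t * c⁻¹ * t⁻¹ := ⟨_, rfl⟩
  have hz1 : f z = 1 := by
    rw [hz, map_mul, map_mul, map_mul, map_inv, map_inv, hc]
    group
  have hzc := hf z hz1
  have e1 : c * t * c⁻¹ = z * t := by rw [hz]; group
  have h1 : t * (c * t * c⁻¹) = c * t * c⁻¹ * t := by
    rw [e1]
    have c1 : Commute z t := hzc t
    exact (c1.symm.mul_right (Commute.refl t)).eq
  have hz0 : z = 1 := by
    rcases h.ad L hL (cj c L) (h.conj c L hL) t (c * t * c⁻¹) ht (ht.cj c) h1 with h2 | h2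
    · refine h.inj hf hL ?_ hz1
      rw [hz]
      refine L.mul_mem ?_ (L.inv_mem ht.mem)
      have h3 := (ht.cj c).mem
      rwa [← h2] at h3
    · exfalso
      apply ht.ne
      refine (h.ty L hL).center ht.mem fun l hl => ?_
      have c1 : Commute z l := hzc l
      have c2 : Commute (c * t * c⁻¹) l := (h2 l hl _ (ht.cj c).mem).symm
      have e2 : t = z⁻¹ * (c * t * c⁻¹) := by rw [e1]; group
      have c3 : Commute t l := by rw [e2]; exact c1.inv_left.mul_left c2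
      exact c3.eq
  rw [hz0, one_mul] at e1
  calc c * t = c * t * c⁻¹ * c := by group
    _ = t * c := by rw [e1]

theorem Sys.exists_iv {L : Subgroup G} (hL : L ∈ LL) {t : Q} (ht : Iv (L.map f) t) : ∃ s, Iv L s ∧ f s = t := by
  obtain ⟨s, hs, hst⟩ := ht.mem
  refine ⟨s, ⟨hs, ?_, ?_⟩, hst⟩
  · refine h.inj hf hL (L.mul_mem hs hs) ?_
    rw [map_mul, hst, ht.sq]
  · rintro rfl
    exact ht.ne (by rw [← hst, map_one])

theorem Sys.quot (hs : Function.Surjective f) : Sys {L' : Subgroup Q | ∃ L ∈ LL, L' = L.map f} where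
  conj := by
    rintro g _ ⟨L, hL, rfl⟩
    obtain ⟨g, rfl⟩ := hs g
    exact ⟨cj g L, h.conj g L hL, cj_map g L⟩
  ne := by
    obtain ⟨L, hL⟩ := h.ne
    exact ⟨_, L, hL, rfl⟩
  ty := by
    rintro _ ⟨L, hL, rfl⟩
    have hinj : Function.Injective (f.comp L.subtype) := by
      rw [injective_iff_map_eq_one]
      intro x hx
      exact Subtype.ext (h.inj hf hL x.2 hx)
    have e := (MonoidHom.ofInjective hinj).trans (MulEquiv.subgroupCongr (show (f.comp L.subtype).range = L.map f by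
      rw [MonoidHom.range_comp, range_subtype]))
    exact (h.ty L hL).congr e
  b1 := by
    rintro _ ⟨L, hL, rfl⟩ t ht c hc
    obtain ⟨s, hs', rfl⟩ := h.exists_iv hf hL ht
    obtain ⟨c, rfl⟩ := hs c
    have h1 := h.b1 L hL s hs' c (h.comm_of_map hf hL hs' hc)
    rw [mem_normalizer_iff_cj] at h1 ⊢
    rw [cj_map, h1]
  ad := by
    rintro _ ⟨L, hL, rfl⟩ _ ⟨K, hK, rfl⟩ t u ht hu htu
    obtain ⟨t, ht', rfl⟩ := h.exists_iv hf hL ht
    obtain ⟨u, hu', rfl⟩ := h.exists_iv hf hK hu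
    rcases h.ad L hL K hK t u ht' hu' (h.comm_of_map hf hK hu' htu) with h1 | h1
    · exact Or.inl (by rw [h1])
    · right
      rintro _ ⟨x, hx, rfl⟩ _ ⟨y, hy, rfl⟩
      rw [← map_mul, h1 x hx y hy, map_mul]
  m := by
    rintro _ ⟨L, hL, rfl⟩
    obtain ⟨K, hK, hP⟩ := h.m L hL
    have key : ∀ M ∈ LL, ∀ t : Q, Iv (M.map f) t → ∃ s, Iv M s ∧
        centralizer ({t} : Set Q) = (centralizer ({s} : Set G)).map f := by
      intro M hM t ht
      obtain ⟨s, hs', rfl⟩ := h.exists_iv hf hM ht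
      refine ⟨s, hs', ?_⟩
      ext c
      constructor
      · intro hc
        obtain ⟨c, rfl⟩ := hs c
        exact ⟨c, mem_c (h.comm_of_map hf hM hs' (comm_c hc)), rfl⟩
      · rintro ⟨c, hc, rfl⟩
        refine mem_c ?_
        rw [← map_mul, comm_c hc, map_mul]
    refine ⟨_, ⟨K, hK, rfl⟩, ?_, fun t ht => ?_, fun t ht => ?_⟩
    · rintro _ ⟨x, hx, rfl⟩ _ ⟨y, hy, rfl⟩
      rw [← map_mul, hP.cm x hx y hy, map_mul]
    · obtain ⟨s, hs', h1⟩ := key L hL t ht
      rw [h1]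
      exact (hP.left s hs').map
    · obtain ⟨s, hs', h1⟩ := key K hK t ht
      rw [h1]
      exact (hP.right s hs').map

end quot

end Cfsg.Agent.UGT.BL
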