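import Cfsg.Agent.UGT.BL.Pump

/-!
# Theorem BL: the classes

`World LL`: `Sys LL`, no proper quasisimple subgroup contains a pair of partners, no nontrivial central elements.
`R L K`: `L = K` or `L`, `K` are partners.

* `World.sn_of_two` (5''): an involution centralising two partners has them as components of its centraliser;
* `World.trans`: `R` is an equivalence relation on `LL`;
* `World.P_of_cm` (3): commuting members are partners;
* `World.sc_one` (4'): an involution of `L` normalising the class of `M`: `L`, `M` are in the same class;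
* `World.sc_two` (6): the same for involutions centralising two members, for classes with at least four members.
-/

set_option autoImplicit false

open Cfsg Subgroup
open Cfsg.Agent.SignalizersComponents Cfsg.Agent.Lib
open Cfsg.Agent.SignalizersComponents.IntrinsicBasic
open Cfsg.Agent.SignalizersComponents.IntrinsicIntr
open Cfsg.Agent.SignalizersComponents.PLayerAut
open Cfsg.Agent.Intrinsic.Basic Cfsg.Agent.Intrinsic.Cen Cfsg.Agent.Intrinsic.Diag
open Cfsg.Agent.McLLyComp.Act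
open Cfsg.Agent.UGT.TMCBase
open scoped commutatorElement

namespace Cfsg.Agent.UGT.BL

variable {G : Type*} [Group G]

/-! ### diagonals -/

theorem Cm.sn [Finite G] {X A B : Subgroup G} (hA : T2 ↥A) (hB : T2 ↥B) (h1 : Sn X A) (h2 : Sn X B)
    (hne : A ≠ B) : Cm A B := by
  have h3 := (hA.comp h1).comm_le_core (hB.comp h2) hne
  rw [hA.core_eq_bot, bot_inf_eq, le_bot_iff, commutator_eq_bot_iff_le_centralizer] at h3
  exact cm_iff.2 h3

theorem exists_dg {M : Subgroup G} {τ : G} (hM : T2 ↥M) (hτ : τ * τ = 1) (hc : Cm M (cj τ M)) :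
    ∃ D : Subgroup G, D ≤ ⁅D, D⁆ ∧ (∀ x ∈ D, x * τ = τ * x) ∧ (∀ m ∈ M, m * (τ * m * τ⁻¹) ∈ D) ∧
      ∀ x ∈ D, ∃ m ∈ M, x = m * (τ * m * τ⁻¹) := by
  have hτi : τ⁻¹ = τ := inv_of_sq hτ
  obtain ⟨f, hf⟩ : ∃ f : ↥M →* G, ∀ m, f m = m * (τ * m * τ⁻¹) := by
    refine ⟨⟨⟨fun m => m * (τ * m * τ⁻¹), ?_⟩, ?_⟩, fun m => rfl⟩
    · show (1 : G) * (τ * 1 * τ⁻¹) = 1
      group
    · intro x y
      have h1 := hc y y.2 (τ * x * τ⁻¹) (conj_mem_cj x.2)
      show (x * y : G) * (τ * (x * y) * τ⁻¹) = x * (τ * x * τ⁻¹) * (y * (τ * y * τ⁻¹))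
      calc (x * y : G) * (τ * (x * y) * τ⁻¹) = x * (y * (τ * x * τ⁻¹)) * (τ * y * τ⁻¹) := by group
        _ = x * (τ * x * τ⁻¹) * (y * (τ * y * τ⁻¹)) := by rw [h1]; group
  have hMp : (⊤ : Subgroup ↥M) ≤ ⁅(⊤ : Subgroup ↥M), ⊤⁆ := by
    have := hM.sim
    exact TT.PGLSolv.top_le_commutator hM.nab
  refine ⟨f.range, ?_, ?_, fun m hm => ⟨⟨m, hm⟩, hf _⟩, ?_⟩
  · rw [MonoidHom.range_eq_map, ← map_commutator]
    exact Subgroup.map_mono hMp
  · rintro _ ⟨m, rfl⟩
    rw [hf]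
    have h1 := hc m m.2 (τ * m * τ⁻¹) (conj_mem_cj m.2)
    calc (m : G) * (τ * m * τ⁻¹) * τ = (τ * m * τ⁻¹) * m * τ := by rw [h1]
      _ = τ * m * (τ⁻¹ * m * τ) := by group
      _ = τ * (m * (τ * m * τ⁻¹)) := by rw [hτi]; group
  · rintro _ ⟨m, rfl⟩
    exact ⟨m, m.2, hf m⟩

/-- an involution normalising `K` centralises an involution of `K` -/
theorem exists_iv_comm [Finite G] {K : Subgroup G} (hK : T2 ↥K) {τ : G} (hτ : τ * τ = 1)
    (hn : τ ∈ normalizer (K : Set G)) : ∃ κ, Iv K κ ∧ κ * τ = τ * κ := by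
  obtain ⟨t, ht⟩ := hK.exists_iv
  have h2 : 2 ∣ Nat.card ↥K := by
    have h1 : orderOf (⟨t, ht.mem⟩ : ↥K) = 2 :=
      orderOf_eq_prime (Subtype.ext (by rw [pow_two]; exact ht.sq)) fun h => ht.ne (congrArg Subtype.val h)
    rw [← h1]
    exact orderOf_dvd_natCard _
  obtain ⟨z, h3, h4, h5⟩ := TT.PGLSolv.fixed h2 (φ := Subgroup.normalizerMonoidHom K ⟨τ, hn⟩) (by
    rw [← map_mul]
    have e : (⟨τ, hn⟩ : ↥(normalizer (K : Set G))) * ⟨τ, hn⟩ = 1 := Subtype.ext hτ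
    rw [e, map_one])
  refine ⟨z, ⟨z.2, congrArg Subtype.val h3, fun h => h4 (Subtype.ext h)⟩, ?_⟩
  have h6 : τ * z * τ⁻¹ = z := congrArg Subtype.val h5
  calc (z : G) * τ = τ * z * τ⁻¹ * τ := by rw [h6]
    _ = τ * z := by group

/-- a perfect group permuting two subgroups normalises them -/
theorem le_normalizer_of_pair {D M M' : Subgroup G} (hD : D ≤ ⁅D, D⁆) (h1 : ∀ d ∈ D, cj d M = M ∨ cj d M = M')
    (h2 : ∀ d ∈ D, cj d M' = M ∨ cj d M' = M') : D ≤ normalizer (M : Set G) := by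
  by_cases hne : M = M'
  · intro d hd
    rw [mem_normalizer_iff_cj]
    rcases h1 d hd with h | h
    · exact h
    · rw [h, hne]
  have key : ∀ d ∈ D, (cj d M = M ∧ cj d M' = M') ∨ (cj d M = M' ∧ cj d M' = M) := by
    intro d hd
    rcases h1 d hd with h3 | h3 <;> rcases h2 d hd with h4 | h4
    · exact absurd (cj_injective d (h3.trans h4.symm)) hne
    · exact Or.inl ⟨h3, h4⟩
    · exact Or.inr ⟨h3, h4⟩
    · exact absurd (cj_injective d (h3.trans h4.symm)) hne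
  refine hD.trans ?_
  rw [commutator_le]
  intro a ha b hb
  rw [mem_normalizer_iff_cj, commutatorElement_def, cj_mul, cj_mul, cj_mul]
  have inv : ∀ d : G, ∀ A B : Subgroup G, cj d A = B → cj d⁻¹ B = A := by
    rintro d A B rfl
    exact cj_inv_cj d A
  rcases key a ha with ⟨ha1, ha2⟩ | ⟨ha1, ha2⟩ <;> rcases key b hb with ⟨hb1, hb2⟩ | ⟨hb1, hb2⟩
  · rw [inv b _ _ hb1, inv a _ _ ha1, hb1, ha1]
  · rw [inv b _ _ hb2, inv a _ _ ha2, hb2, ha1]
  · rw [inv b _ _ hb1, inv a _ _ ha2, hb2, ha2]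
  · rw [inv b _ _ hb2, inv a _ _ ha1, hb1, ha2]

/-! ### the world -/

/-- equal or partners -/
def R (L K : Subgroup G) : Prop := L = K ∨ P L K

theorem R.symm {L K : Subgroup G} (h : R L K) : R K L := by
  rcases h with h | h
  · exact Or.inl h.symm
  · exact Or.inr h.symm

theorem R.cj {L K : Subgroup G} (h : R L K) (g : G) : R (cj g L) (IntrinsicBasic.cj g K) := by
  rcases h with h | h
  · exact Or.inl (by rw [h])
  · exact Or.inr (h.cj g)

/-- the minimal counterexample -/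
structure World (LL : Set (Subgroup G)) : Prop extends Sys LL where
  np : ∀ J : Subgroup G, J ≠ ⊤ → IsQuasisimple ↥J → ∀ A ∈ LL, ∀ B ∈ LL, P A B → A ≤ J → B ≤ J → False
  cen : ∀ u : G, u ≠ 1 → centralizer ({u} : Set G) ≠ ⊤

namespace World

variable [Finite G] {LL : Set (Subgroup G)} (h : World LL)
include h

/-- (5'') -/
theorem sn_of_two {A B : Subgroup G} (hA : A ∈ LL) (hB : B ∈ LL) (hP : P A B) {u : G} (hu1 : u ≠ 1)
    (hAu : ∀ a ∈ A, a * u = u * a) (hBu : ∀ b ∈ B, b * u = u * b) : Sn (centralizer ({u} : Set G)) A := by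
  have hTA := h.ty A hA
  have hTB := h.ty B hB
  obtain ⟨a, ha⟩ := hTA.exists_iv
  obtain ⟨b, hb⟩ := hTB.exists_iv
  obtain ⟨J, hJ, hAJ, -, hs⟩ := h.toSys.pump hA hb.sq (hBu b hb.mem) (hP.right b hb) hAu
  obtain ⟨J', hJ', hBJ, -, -⟩ := h.toSys.pump hB ha.sq (hAu a ha.mem) (hP.left a ha) hBu
  by_cases hJJ : J = J'
  · exfalso
    refine h.np J ?_ (h.toSys.quasisimple hA hJ hAJ) A hA B hB hP hAJ (hJJ ▸ hBJ)
    intro h1
    apply h.cen u hu1
    rw [eq_top_iff, ← h1]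
    exact hJ.le
  · have hf : Fixes b J := hJ.fixes_of_mem hJ' hJJ (hBJ hb.mem)
    have h1 := h.toSys.eq_of_fixes hA hb.sq (mem_c (hBu b hb.mem)) hJ hAJ hs hf
    rw [h1]
    exact Sn.of_comp hJ

/-- `P` is transitive -/
theorem trans' {L A B : Subgroup G} (hL : L ∈ LL) (hA : A ∈ LL) (hB : B ∈ LL) (h1 : P L A) (h2 : P L B)
    (hne : A ≠ B) : P A B := by
  obtain ⟨t, ht⟩ := (h.ty L hL).exists_iv
  have hc : Cm A B := Cm.sn (h.ty A hA) (h.ty B hB) (h1.left t ht) (h2.left t ht) hne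
  refine ⟨hc, fun a ha => ?_, fun b hb => ?_⟩
  · exact h.sn_of_two hB hL h2.symm ha.ne (fun x hx => (hc a ha.mem x hx).symm) (fun x hx => (h1.cm x hx a ha.mem))
  · exact h.sn_of_two hA hL h1.symm hb.ne (fun x hx => hc x hx b hb.mem) (fun x hx => (h2.cm x hx b hb.mem))

theorem trans {L A B : Subgroup G} (hL : L ∈ LL) (hA : A ∈ LL) (hB : B ∈ LL) (h1 : R L A) (h2 : R L B) :
    R A B := by
  rcases h1 with rfl | h1
  · exact h2
  · rcases h2 with rfl | h2
    · exact Or.inr h1.symm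
    · by_cases hne : A = B
      · exact Or.inl hne
      · exact Or.inr (h.trans' hL hA hB h1 h2 hne)

/-- (4), one step -/
theorem cm_partner {L K K2 : Subgroup G} (hL : L ∈ LL) (hK : K ∈ LL) (hK2 : K2 ∈ LL) (hc : Cm L K)
    (hn : ¬ R L K) (hP : P K K2) : Cm L K2 := by
  have hTL := h.ty L hL
  have hTK2 := h.ty K2 hK2
  obtain ⟨τ, hτ⟩ := hTL.exists_iv
  obtain ⟨t, ht⟩ := (h.ty K hK).exists_iv
  have hsn : ∀ l ∈ L, Sn (centralizer ({t} : Set G)) (cj l K2) := by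
    intro l hl
    have h1 := (hP.left t ht).cj l
    rw [cj_centralizer] at h1
    have h2 := hc l hl t ht.mem
    have e : l * t * l⁻¹ = t := by rw [h2]; group
    rwa [e] at h1
  have hT2 : ∀ l : G, T2 ↥(cj l K2) := fun l => h.ty _ (h.conj l K2 hK2)
  have hN : τ ∈ normalizer (K2 : Set G) := by
    by_contra hτN
    have hne : cj τ K2 ≠ K2 := fun h1 => hτN (mem_normalizer_iff_cj.2 h1)
    have hcc : Cm K2 (cj τ K2) := Cm.sn hTK2 (hT2 τ) (hP.left t ht) (hsn τ hτ.mem) (Ne.symm hne)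
    obtain ⟨D, hD1, hD2, hD3, -⟩ := exists_dg hTK2 hτ.sq hcc
    have hDN : D ≤ normalizer (L : Set G) := fun d hd => h.b1 L hL τ hτ d (hD2 d hd)
    have hDL : Cm D L := hTL.cm_of_perfect hD1 hDN hτ hD2
    have key : ∀ l ∈ L, cj l K2 = K2 ∨ cj l K2 = cj τ K2 := by
      intro l hl
      by_contra hcon
      rw [not_or] at hcon
      have c1 : Cm (cj l K2) K2 := Cm.sn (hT2 l) hTK2 (hsn l hl) (hP.left t ht) hcon.1
      have c2 : Cm (cj l K2) (cj τ K2) := Cm.sn (hT2 l) (hT2 τ) (hsn l hl) (hsn τ hτ.mem) hcon.2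
      have c3 : Cm (cj l K2) (cj l (cj τ K2)) := hcc.cj l
      apply (hT2 l).not_cm
      intro x hx y hy
      obtain ⟨k, hk⟩ : ∃ k, k = l⁻¹ * x * l := ⟨_, rfl⟩
      have hkK : k ∈ K2 := by rw [hk]; exact mem_cj.1 hx
      have e1 : x = l * k * l⁻¹ := by rw [hk]; group
      have hkτ : τ * k * τ⁻¹ ∈ cj τ K2 := conj_mem_cj hkK
      have h1 : Commute (k * (τ * k * τ⁻¹)) l := hDL _ (hD3 k hkK) l hl
      have h2 : Commute y k := c1 y hy k hkK
      have h3 : Commute y (τ * k * τ⁻¹) := c2 y hy _ hkτ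
      have h4 : Commute y (l * (τ * k * τ⁻¹) * l⁻¹) := c3 y hy _ (conj_mem_cj hkτ)
      have e2 : x = (k * (τ * k * τ⁻¹)) * (l * (τ * k * τ⁻¹) * l⁻¹)⁻¹ := by
        calc x = (l * (k * (τ * k * τ⁻¹))) * l⁻¹ * (l * (τ * k * τ⁻¹) * l⁻¹)⁻¹ := by rw [e1]; group
          _ = ((k * (τ * k * τ⁻¹)) * l) * l⁻¹ * (l * (τ * k * τ⁻¹) * l⁻¹)⁻¹ := by rw [h1.eq]
          _ = _ := by group
      rw [e2]
      exact ((h2.mul_right h3).mul_right h4.inv_right).eq.symm
    have h3 := le_normalizer_of_pair hTL.perfect key (fun l hl => by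
      have := key (l * τ) (L.mul_mem hl hτ.mem)
      rwa [cj_mul] at this)
    exact hτN (h3 hτ.mem)
  obtain ⟨κ, hκ, hκτ⟩ := exists_iv_comm hTK2 hτ.sq hN
  rcases h.ad L hL K2 hK2 τ κ hτ hκ hκτ.symm with h1 | h1
  · exact absurd (Or.inr (h1 ▸ hP.symm)) hn
  · exact h1

/-- (3) commuting members are partners -/
theorem P_of_cm {L K : Subgroup G} (hL : L ∈ LL) (hK : K ∈ LL) (hc : Cm L K) : P L K := by
  by_contra hn
  have hR : ¬ R L K := by
    rintro (h1 | h1)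
    · exact (h.ty L hL).ne_of_cm hc h1
    · exact hn h1
  obtain ⟨L2, hL2, hLL⟩ := h.m L hL
  obtain ⟨K2, hK2, hKK⟩ := h.m K hK
  have h1 := h.cm_partner hL hK hK2 hc hR hKK
  have h2 := h.cm_partner hK hL hL2 hc.symm (fun h3 => hR h3.symm) hLL
  apply hn
  refine ⟨hc, fun t ht => ?_, fun u hu => ?_⟩
  · exact h.sn_of_two hK hK2 hKK ht.ne (fun x hx => (hc t ht.mem x hx).symm) (fun x hx => (h1 t ht.mem x hx).symm)
  · exact h.sn_of_two hL hL2 hLL hu.ne (fun x hx => hc x hx u hu.mem) (fun x hx => (h2 u hu.mem x hx).symm)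

theorem R_of_comm {L K : Subgroup G} (hL : L ∈ LL) (hK : K ∈ LL) {t u : G} (ht : Iv L t) (hu : Iv K u)
    (htu : t * u = u * t) : R L K := by
  rcases h.ad L hL K hK t u ht hu htu with h1 | h1
  · exact Or.inl h1
  · exact Or.inr (h.P_of_cm hL hK h1)

/-- (4') -/
theorem sc_one {L M : Subgroup G} (hL : L ∈ LL) (hM : M ∈ LL) {t : G} (ht : Iv L t) (hR : R M (cj t M)) :
    R L M := by
  have hTL := h.ty L hL
  have hTM := h.ty M hM
  rcases hR with hR | hR
  · obtain ⟨κ, hκ, hκt⟩ := exists_iv_comm hTM ht.sq (mem_normalizer_iff_cj.2 hR.symm)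
    exact h.R_of_comm hL hM ht hκ hκt.symm
  · exfalso
    obtain ⟨D, hD1, hD2, hD3, -⟩ := exists_dg hTM ht.sq hR.cm
    have hDN : D ≤ normalizer (L : Set G) := fun d hd => h.b1 L hL t ht d (hD2 d hd)
    have hDL : Cm D L := hTL.cm_of_perfect hD1 hDN ht hD2
    obtain ⟨e, he⟩ := hTM.exists_iv
    have hti : t⁻¹ = t := inv_of_sq ht.sq
    have hei : e⁻¹ = e := inv_of_sq he.sq
    obtain ⟨δ, hδ⟩ : ∃ δ, δ = e * (t * e * t⁻¹) := ⟨_, rfl⟩
    have hδD : δ ∈ D := hδ ▸ hD3 e he.mem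
    have e1 : e * t * e⁻¹ = δ * t := by rw [hδ, hei]; group
    have hδ1 : δ ≠ 1 := by
      intro h1
      apply he.ne
      refine hTM.inf_of_cm hR.cm he.mem ?_
      rw [hδ, mul_eq_one_iff_eq_inv] at h1
      rw [h1]
      exact (IntrinsicBasic.cj t M).inv_mem (conj_mem_cj he.mem)
    have hco : Commute δ t := hD2 δ hδD
    have hco2 : t * (e * t * e⁻¹) = e * t * e⁻¹ * t := by
      rw [e1]
      exact ((hco.symm.mul_right (Commute.refl t))).eq
    rcases h.ad L hL (cj e L) (h.conj e L hL) t (e * t * e⁻¹) ht (ht.cj e) hco2 with h1 | h1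
    · apply hδ1
      have h2 : e * t * e⁻¹ ∈ L := by
        have := (ht.cj e).mem
        rwa [← h1] at this
      have h3 : δ ∈ L := by
        have e2 : δ = e * t * e⁻¹ * t⁻¹ := by rw [e1]; group
        rw [e2]
        exact L.mul_mem h2 (L.inv_mem ht.mem)
      exact hTL.center h3 fun l hl => hDL δ hδD l hl
    · apply ht.ne
      refine hTL.center ht.mem fun l hl => ?_
      have c1 : Commute δ l := hDL δ hδD l hl
      have c2 : Commute (e * t * e⁻¹) l := (h1 l hl _ (ht.cj e).mem).symm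
      have e2 : t = δ⁻¹ * (e * t * e⁻¹) := by rw [e1]; group
      have c3 : Commute t l := by
        rw [e2]
        exact c1.inv_left.mul_left c2
      exact c3.eq

/-- an involution centralising two partners: its centraliser preserves the class -/
theorem R_of_two {A B : Subgroup G} (hA : A ∈ LL) (hB : B ∈ LL) (hP : P A B) {u c : G} (hu1 : u ≠ 1)
    (hAu : ∀ a ∈ A, a * u = u * a) (hBu : ∀ b ∈ B, b * u = u * b) (hc : c * u = u * c) : R A (cj c A) := by
  have h1 := h.sn_of_two hA hB hP hu1 hAu hBu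
  have h2 := h1.cj c
  rw [cj_centralizer] at h2
  have e : c * u * c⁻¹ = u := by rw [hc]; group
  rw [e] at h2
  by_cases hne : A = cj c A
  · exact Or.inl hne
  · exact Or.inr (h.P_of_cm hA (h.conj c A hA) (Cm.sn (h.ty A hA) (h.ty _ (h.conj c A hA)) h1 h2 hne))

/-- (6)(i) -/
theorem R_of_normalizer {A B M : Subgroup G} (hA : A ∈ LL) (hB : B ∈ LL) (hM : M ∈ LL) (hP : P A B) {u : G}
    (hu : u * u = 1) (hu1 : u ≠ 1) (hAu : ∀ a ∈ A, a * u = u * a) (hBu : ∀ b ∈ B, b * u = u * b)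
    (hn : u ∈ normalizer (M : Set G)) : R A M := by
  obtain ⟨κ, hκ, hκu⟩ := exists_iv_comm (h.ty M hM) hu hn
  exact (h.sc_one hM hA hκ (h.R_of_two hA hB hP hu1 hAu hBu hκu)).symm

/-- the class is preserved -/
theorem R_cj_of {A A' : Subgroup G} (hA : A ∈ LL) (hA' : A' ∈ LL) (hR : R A A') {c : G} (hc : R A (cj c A)) :
    R A' (cj c A') := by
  have h1 : R (cj c A) (cj c A') := hR.cj c
  have h2 : R A (cj c A') := h.trans (h.conj c A hA) hA (h.conj c A' hA') hc.symm h1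
  exact h.trans hA hA' (h.conj c A' hA') hR h2

/-- (6) -/
theorem sc_two {A B M : Subgroup G} (hA : A ∈ LL) (hB : B ∈ LL) (hM : M ∈ LL) (hP : P A B) {u : G}
    (hu : u * u = 1) (hu1 : u ≠ 1) (hAu : ∀ a ∈ A, a * u = u * a) (hBu : ∀ b ∈ B, b * u = u * b)
    (hR : R M (cj u M))
    (fA : ∀ X Y : Subgroup G, ∃ C ∈ LL, ∃ D ∈ LL, R A C ∧ R A D ∧ C ≠ D ∧ C ≠ X ∧ C ≠ Y ∧ D ≠ X ∧ D ≠ Y)
    (fM : ∀ X Y : Subgroup G, ∃ C ∈ LL, ∃ D ∈ LL, R M C ∧ R M D ∧ C ≠ D ∧ C ≠ X ∧ C ≠ Y ∧ D ≠ X ∧ D ≠ Y) :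
    R A M := by
  by_contra hn
  have hTA := h.ty A hA
  have hTM := h.ty M hM
  have hui : u⁻¹ = u := inv_of_sq hu
  rcases hR with hR | hR
  · exact hn (h.R_of_normalizer hA hB hM hP hu hu1 hAu hBu (mem_normalizer_iff_cj.2 hR.symm))
  obtain ⟨M', hM'⟩ : ∃ M', M' = cj u M := ⟨_, rfl⟩
  rw [← hM'] at hR
  have hM'L : M' ∈ LL := hM' ▸ h.conj u M hM
  have hTM' := h.ty M' hM'L
  obtain ⟨d, hd⟩ := hTM.exists_iv
  obtain ⟨d', hd'⟩ : ∃ d', d' = u * d * u⁻¹ := ⟨_, rfl⟩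
  have hd'M : Iv M' d' := by rw [hM', hd']; exact hd.cj u
  obtain ⟨δ, hδ⟩ : ∃ δ, δ = d * d' := ⟨_, rfl⟩
  have hdd : d * d' = d' * d := hR.cm d hd.mem d' hd'M.mem
  have hδ2 : δ * δ = 1 := by
    rw [hδ]
    calc d * d' * (d * d') = d * (d' * d) * d' := by group
      _ = (d * d) * (d' * d') := by rw [← hdd]; group
      _ = 1 := by rw [hd.sq, hd'M.sq, one_mul]
  have hδ1 : δ ≠ 1 := by
    intro h1
    apply hd.ne
    refine hTM.inf_of_cm hR.cm hd.mem ?_
    rw [hδ, mul_eq_one_iff_eq_inv] at h1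
    rw [h1]
    exact M'.inv_mem hd'M.mem
  have hδu : δ * u = u * δ := by
    rw [hδ]
    calc d * d' * u = d' * d * u := by rw [hdd]
      _ = u * d * (u⁻¹ * d * u) := by rw [hd']; group
      _ = u * (d * d') := by rw [hd', hui]; group
  -- members of the class of `M` other than `M`, `M'` commute with `δ`
  have hout : ∀ C ∈ LL, R M C → C ≠ M → C ≠ M' → ∀ x ∈ C, x * δ = δ * x := by
    intro C hC hRC h1 h2 x hx
    have h3 : P M C := by
      rcases hRC with h3 | h3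
      · exact absurd h3.symm h1
      · exact h3
    have h4 : R M' C := h.trans hM hM'L hC (Or.inr hR) hRC
    have h5 : P M' C := by
      rcases h4 with h5 | h5
      · exact absurd h5.symm h2
      · exact h5
    have c1 : Commute x d := (h3.cm d hd.mem x hx).symm
    have c2 : Commute x d' := (h5.cm d' hd'M.mem x hx).symm
    rw [hδ]
    exact (c1.mul_right c2).eq
  obtain ⟨C1, hC1, D1, hD1, hRC1, hRD1, hne1, hCM, hCM', hDM, hDM'⟩ := fM M M'
  have hP1 : P C1 D1 := by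
    rcases h.trans hM hC1 hD1 hRC1 hRD1 with h1 | h1
    · exact absurd h1 hne1
    · exact h1
  have hC1δ := hout C1 hC1 hRC1 hCM hCM'
  have hD1δ := hout D1 hD1 hRD1 hDM hDM'
  -- `δ` moves `A`
  have hδA : R A (cj δ A) := h.R_of_two hA hB hP hu1 hAu hBu hδu
  have hAne : ¬ A = cj δ A := by
    intro h1
    have h2 := h.R_of_normalizer hC1 hD1 hA hP1 hδ2 hδ1 hC1δ hD1δ (mem_normalizer_iff_cj.2 h1.symm)
    exact hn (h.trans hC1 hA hM h2 hRC1.symm)
  have hPA : P A (cj δ A) := by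
    rcases hδA with h1 | h1
    · exact absurd h1 hAne
    · exact h1
  obtain ⟨E, hE1, hE2, hE3, -⟩ := exists_dg hTA hδ2 hPA.cm
  -- `C(δ)` permutes `M`, `M'`
  have hperm : ∀ c : G, c * δ = δ * c → ∀ N ∈ LL, (N = M ∨ N = M') → cj c N = M ∨ cj c N = M' := by
    intro c hc N hN hNM
    by_contra hcon
    rw [not_or] at hcon
    have h1 : R C1 (cj c C1) := h.R_of_two hC1 hD1 hP1 hδ1 hC1δ hD1δ hc
    have hMN : R M N := by
      rcases hNM with h2 | h2
      · exact Or.inl h2.symm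
      · exact Or.inr (h2 ▸ hR)
    have h2 : R C1 N := h.trans hM hC1 hN hRC1 hMN
    have h3 : R N (cj c N) := h.R_cj_of hC1 hN h2 h1
    have h4 : R M (cj c N) := h.trans hN hM (h.conj c N hN) hMN.symm h3
    have h5 := hout (cj c N) (h.conj c N hN) h4 hcon.1 hcon.2
    -- so `δ` centralises `N`
    have h6 : ∀ x ∈ N, x * δ = δ * x := by
      intro x hx
      have h7 := h5 _ (conj_mem_cj (g := c) hx)
      have e1 : δ = c * δ * c⁻¹ := by rw [hc]; group
      calc x * δ = c⁻¹ * ((c * x * c⁻¹) * (c * δ * c⁻¹)) * c := by group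
        _ = c⁻¹ * ((c * x * c⁻¹) * δ) * c := by rw [← e1]
        _ = c⁻¹ * (δ * (c * x * c⁻¹)) * c := by rw [h7]
        _ = c⁻¹ * ((c * δ * c⁻¹) * (c * x * c⁻¹)) * c := by rw [← e1]
        _ = δ * x := by group
    rcases hNM with rfl | rfl
    · apply hd.ne
      refine hTM.center hd.mem fun l hl => ?_
      have c1 : Commute δ l := (h6 l hl).symm
      have c2 : Commute d' l := (hR.cm l hl d' hd'M.mem).symm
      have e1 : d = δ * d'⁻¹ := by rw [hδ]; group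
      have c3 : Commute d l := by rw [e1]; exact c1.mul_left c2.inv_left
      exact c3.eq
    · apply hd'M.ne
      refine hTM'.center hd'M.mem fun l hl => ?_
      have c1 : Commute δ l := (h6 l hl).symm
      have c2 : Commute d l := hR.cm d hd.mem l hl
      have e1 : d' = d⁻¹ * δ := by rw [hδ]; group
      have c3 : Commute d' l := by rw [e1]; exact c2.inv_left.mul_left c1
      exact c3.eq
  have hEM : E ≤ normalizer (M : Set G) := le_normalizer_of_pair hE1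
    (fun x hx => hperm x (hE2 x hx) M hM (Or.inl rfl)) (fun x hx => hperm x (hE2 x hx) M' hM'L (Or.inr rfl))
  -- an involution of the diagonal
  obtain ⟨l, hl⟩ := hTA.exists_iv
  obtain ⟨A', hA'⟩ : ∃ A', A' = cj δ A := ⟨_, rfl⟩
  rw [← hA'] at hPA hAne
  have hA'L : A' ∈ LL := hA' ▸ h.conj δ A hA
  obtain ⟨l', hl'⟩ : ∃ l', l' = δ * l * δ⁻¹ := ⟨_, rfl⟩
  have hl'A : Iv A' l' := by rw [hA', hl']; exact hl.cj δ
  obtain ⟨ε, hε⟩ : ∃ ε, ε = l * l' := ⟨_, rfl⟩
  have hεE : ε ∈ E := by rw [hε, hl']; exact hE3 l hl.mem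
  have hll : l * l' = l' * l := hPA.cm l hl.mem l' hl'A.mem
  have hε2 : ε * ε = 1 := by
    rw [hε]
    calc l * l' * (l * l') = l * (l' * l) * l' := by group
      _ = (l * l) * (l' * l') := by rw [← hll]; group
      _ = 1 := by rw [hl.sq, hl'A.sq, one_mul]
  have hε1 : ε ≠ 1 := by
    intro h1
    apply hl.ne
    refine hTA.inf_of_cm hPA.cm hl.mem ?_
    rw [hε, mul_eq_one_iff_eq_inv] at h1
    rw [h1]
    exact A'.inv_mem hl'A.mem
  have hout' : ∀ C ∈ LL, R A C → C ≠ A → C ≠ A' → ∀ x ∈ C, x * ε = ε * x := by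
    intro C hC hRC h1 h2 x hx
    have h3 : P A C := by
      rcases hRC with h3 | h3
      · exact absurd h3.symm h1
      · exact h3
    have h4 : R A' C := h.trans hA hA'L hC (Or.inr hPA) hRC
    have h5 : P A' C := by
      rcases h4 with h5 | h5
      · exact absurd h5.symm h2
      · exact h5
    have c1 : Commute x l := (h3.cm l hl.mem x hx).symm
    have c2 : Commute x l' := (h5.cm l' hl'A.mem x hx).symm
    rw [hε]
    exact (c1.mul_right c2).eq
  obtain ⟨C2, hC2, D2, hD2, hRC2, hRD2, hne2, hCA, hCA', hDA, hDA'⟩ := fA A A'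
  have hP2 : P C2 D2 := by
    rcases h.trans hA hC2 hD2 hRC2 hRD2 with h1 | h1
    · exact absurd h1 hne2
    · exact h1
  have h9 := h.R_of_normalizer hC2 hD2 hM hP2 hε2 hε1 (hout' C2 hC2 hRC2 hCA hCA') (hout' D2 hD2 hRD2 hDA hDA')
    (hEM hεE)
  exact hn (h.trans hC2 hA hM hRC2.symm h9)

end World

end Cfsg.Agent.UGT.BL
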